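import Mathlib

/-!
# Derived series in the ambient group, fixed points in quotients and sections
-/

set_option autoImplicit false

namespace Cfsg.Agent.Alperin23

open scoped commutatorElement

universe u v

variable {G : Type u} [Group G]

/-- The derived series of a subgroup, inside the ambient group. -/
def dS (H : Subgroup G) : ℕ → Subgroup G
  | 0 => H
  | n + 1 => ⁅dS H n, dS H n⁆

theorem dS_succ (H : Subgroup G) (n : ℕ) : dS H (n + 1) = ⁅dS H n, dS H n⁆ := rfl

theorem dS_top (n : ℕ) : dS (⊤ : Subgroup G) n = derivedSeries G n := by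
  induction n with
  | zero => rfl
  | succ n ih => rw [dS_succ, ih, derivedSeries_succ]

theorem dS_mono {H K : Subgroup G} (h : H ≤ K) (n : ℕ) : dS H n ≤ dS K n := by
  induction n with
  | zero => exact h
  | succ n ih => exact Subgroup.commutator_mono ih ih

theorem dS_add (H : Subgroup G) (m n : ℕ) : dS H (m + n) = dS (dS H m) n := by
  induction n with
  | zero => rfl
  | succ n ih => rw [← add_assoc, dS_succ, ih, dS_succ]

theorem dS_le_self (H : Subgroup G) (n : ℕ) : dS H n ≤ H := by
  induction n with
  | zero => exact le_rfl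
  | succ n ih =>
    exact (Subgroup.commutator_mono ih ih).trans
      (Subgroup.commutator_le.mpr fun _ ha _ hb => mul_mem (mul_mem (mul_mem ha hb) (inv_mem ha)) (inv_mem hb))

theorem dS_anti (H : Subgroup G) {m n : ℕ} (h : m ≤ n) : dS H n ≤ dS H m := by
  obtain ⟨k, rfl⟩ := Nat.exists_eq_add_of_le h
  rw [dS_add]
  exact dS_le_self _ _

theorem map_dS {X : Type v} [Group X] (f : G →* X) (H : Subgroup G) (n : ℕ) :
    (dS H n).map f = dS (H.map f) n := by
  induction n with
  | zero => rfl
  | succ n ih => rw [dS_succ, Subgroup.map_commutator, ih, dS_succ]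

theorem map_subtype_derivedSeries (H : Subgroup G) (n : ℕ) :
    (derivedSeries H n).map H.subtype = dS H n := by
  rw [← dS_top, map_dS, ← MonoidHom.range_eq_map, Subgroup.range_subtype]

/-- A solvable finite group has derived length at most its order. -/
theorem derived_eq_bot_of_card (X : Type v) [Group X] [Finite X] [Group.IsSolvable X] :
    derivedSeries X (Nat.card X) = ⊥ := by
  obtain ⟨N, hN⟩ := Group.IsSolvable.solvable (G := X)
  have key : ∀ k, derivedSeries X k = ⊥ ∨ Nat.card (derivedSeries X k) + k ≤ Nat.card X := by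
    intro k
    induction k with
    | zero => right; simp
    | succ k ih =>
      rcases ih with ih | ih
      · left
        rw [derivedSeries_succ, ih, Subgroup.commutator_bot_left]
      · rcases eq_or_ne (derivedSeries X (k + 1)) (derivedSeries X k) with he | he
        · left
          have hs : ∀ j, derivedSeries X (k + j) = derivedSeries X k := by
            intro j
            induction j with
            | zero => rfl
            | succ j ihj => rw [← add_assoc, derivedSeries_succ, ihj, ← derivedSeries_succ, he]
          refine le_bot_iff.mp (he.le.trans ?_)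
          rw [← hs N, ← hN]
          exact derivedSeries_antitone X (Nat.le_add_left N k)
        · right
          have hle : derivedSeries X (k + 1) ≤ derivedSeries X k :=
            derivedSeries_antitone X (Nat.le_succ k)
          have : Nat.card (derivedSeries X (k + 1)) < Nat.card (derivedSeries X k) := by
            refine lt_of_le_of_ne (Nat.le_of_dvd Nat.card_pos (Subgroup.card_dvd_of_le hle)) fun h => he ?_
            exact Subgroup.eq_of_le_of_card_ge hle h.ge
          omega
  rcases key (Nat.card X) with h | h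
  · exact h
  · have : 0 < Nat.card (derivedSeries X (Nat.card X)) := Nat.card_pos
    omega

theorem derived_le_ker [Finite G] [Group.IsSolvable G] {X : Type v} [Group X] [Finite X] (f : G →* X) :
    derivedSeries G (Nat.card X) ≤ f.ker := by
  have h1 : derivedSeries f.range (Nat.card X) = ⊥ := by
    haveI : Group.IsSolvable f.range := Group.isSolvable_of_surjective f.rangeRestrict_surjective
    exact le_bot_iff.mp ((derivedSeries_antitone f.range (Nat.le_of_dvd Nat.card_pos
      f.range.card_subgroup_dvd_card)).trans (derived_eq_bot_of_card f.range).le)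
  intro x hx
  have h2 : f.rangeRestrict x ∈ derivedSeries f.range (Nat.card X) :=
    map_derivedSeries_le_derivedSeries f.rangeRestrict _ ⟨x, hx, rfl⟩
  rw [h1, Subgroup.mem_bot] at h2
  exact congrArg Subtype.val h2

theorem derived_le_of_normal [Finite G] [Group.IsSolvable G] (N : Subgroup G) [N.Normal] :
    derivedSeries G N.index ≤ N := by
  have h := derived_le_ker (QuotientGroup.mk' N)
  rwa [QuotientGroup.ker_mk'] at h

/-- The automorphism induced on a quotient by an invariant normal subgroup. -/
def quotAut (N : Subgroup G) [N.Normal] (α : MulAut G) (hN : N.map α.toMonoidHom = N) : MulAut (G ⧸ N) :=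
  QuotientGroup.congr N N α hN

theorem quotAut_mk (N : Subgroup G) [N.Normal] (α : MulAut G) (hN : N.map α.toMonoidHom = N) (x : G) :
    quotAut N α hN (x : G ⧸ N) = ((α x : G) : G ⧸ N) := rfl

theorem quotAut_pow (N : Subgroup G) [N.Normal] (α : MulAut G) (hN : N.map α.toMonoidHom = N) {p : ℕ}
    (hα : α ^ p = 1) : quotAut N α hN ^ p = 1 := by
  have key : ∀ k (x : G), (quotAut N α hN ^ k) (x : G ⧸ N) = (((α ^ k) x : G) : G ⧸ N) := by
    intro k
    induction k with
    | zero => intro x; rfl
    | succ k ih => intro x; rw [pow_succ', MulAut.mul_apply, ih, quotAut_mk, pow_succ', MulAut.mul_apply]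
  refine MulEquiv.ext fun y => ?_
  obtain ⟨x, rfl⟩ := QuotientGroup.mk_surjective y
  rw [key, hα]
  rfl

/-- A quotient by an invariant normal subgroup has at most as many fixed points. -/
theorem card_fixed_quot [Finite G] (N : Subgroup G) [N.Normal] (α : MulAut G)
    (hN : N.map α.toMonoidHom = N) :
    Nat.card {y : G ⧸ N // quotAut N α hN y = y} ≤ Nat.card {x : G // α x = x} := by
  classical
  let F := {x : G // α x = x}
  let Y := {y : G ⧸ N // quotAut N α hN y = y}
  -- the preimage
  let S := {x : G // x⁻¹ * α x ∈ N}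
  have h1 : Nat.card S = Nat.card Y * Nat.card N := by
    let toY : S → Y := fun x => ⟨((x : G) : G ⧸ N), by
      rw [quotAut_mk]; exact ((QuotientGroup.eq).mpr x.2).symm⟩
    let e : S ≃ Y × N :=
      { toFun := fun x => (toY x, ⟨((toY x : Y) : G ⧸ N).out⁻¹ * (x : G),
          QuotientGroup.eq.mp (QuotientGroup.out_eq' _)⟩)
        invFun := fun yn => ⟨(yn.1 : G ⧸ N).out * (yn.2 : G), by
          have h := yn.1.2
          have e1 : (((yn.1 : G ⧸ N).out * (yn.2 : G) : G) : G ⧸ N) = (yn.1 : G ⧸ N) := by
            rw [QuotientGroup.mk_mul, QuotientGroup.out_eq', (QuotientGroup.eq_one_iff _).mpr yn.2.2, mul_one]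
          rw [← e1, quotAut_mk] at h
          exact QuotientGroup.eq.mp h.symm⟩
        left_inv := fun x => Subtype.ext (mul_inv_cancel_left _ _)
        right_inv := fun yn => by
          have e1 : (((yn.1 : G ⧸ N).out * (yn.2 : G) : G) : G ⧸ N) = (yn.1 : G ⧸ N) := by
            rw [QuotientGroup.mk_mul, QuotientGroup.out_eq', (QuotientGroup.eq_one_iff _).mpr yn.2.2, mul_one]
          refine Prod.ext (Subtype.ext e1) (Subtype.ext ?_)
          show ((((yn.1 : G ⧸ N).out * (yn.2 : G) : G) : G ⧸ N)).out⁻¹ * ((yn.1 : G ⧸ N).out * (yn.2 : G))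
            = (yn.2 : G)
          rw [e1, inv_mul_cancel_left] }
    rw [Nat.card_congr e, Nat.card_prod]
  have h2 : Nat.card S ≤ Nat.card F * Nat.card N := by
    let μ : S → N := fun x => ⟨(x : G)⁻¹ * α x, x.2⟩
    have hex : ∀ n ∈ Set.range μ, ∃ s : S, μ s = n := fun n hn => hn
    haveI : Nonempty S := ⟨⟨1, by simp⟩⟩
    choose! sec hsec using hex
    let e : S → F × N := fun x => (⟨(x : G) * (sec (μ x) : G)⁻¹, by
      have h : (sec (μ x) : G)⁻¹ * α (sec (μ x) : G) = (x : G)⁻¹ * α x :=
        congrArg Subtype.val (hsec (μ x) ⟨x, rfl⟩)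
      rw [map_mul, map_inv]
      calc α (x : G) * (α (sec (μ x) : G))⁻¹
          = (x : G) * ((x : G)⁻¹ * α x) * (α (sec (μ x) : G))⁻¹ := by group
        _ = (x : G) * (sec (μ x) : G)⁻¹ := by rw [← h]; group⟩, μ x)
    have hinj : Function.Injective e := by
      intro x y h
      have h1 : μ x = μ y := congrArg Prod.snd h
      have h2 : (x : G) * (sec (μ x) : G)⁻¹ = (y : G) * (sec (μ y) : G)⁻¹ :=
        congrArg Subtype.val (congrArg Prod.fst h)
      rw [h1] at h2
      exact Subtype.ext (mul_right_cancel h2)
    have := Nat.card_le_card_of_injective e hinj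
    rwa [Nat.card_prod] at this
  exact Nat.le_of_mul_le_mul_right (h1 ▸ h2) Nat.card_pos

/-- An abelian group of exponent `p` with an automorphism of order dividing `p`. -/
theorem card_le_fixed_pow (A : Type v) [AddCommGroup A] [Finite A] {p : ℕ} [hp : Fact p.Prime]
    (hA : ∀ a : A, p • a = 0) (f : A →+ A) (hf : ∀ a, f^[p] a = a) :
    Nat.card A ≤ Nat.card {a : A // f a = a} ^ p := by
  classical
  let F : AddMonoid.End A := f
  let g : AddMonoid.End A := F - 1
  have hgp : g ^ p = 0 := by
    have hfp : F ^ p = 1 := by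
      refine AddMonoidHom.ext fun a => ?_
      exact (congrFun (AddMonoid.End.coe_pow A F p) a).trans (hf a)
    obtain ⟨r, hr⟩ := Commute.exists_add_pow_prime_eq hp.out (Commute.one_right g)
    have hg1 : g + 1 = F := sub_add_cancel F 1
    rw [hg1, hfp, one_pow] at hr
    have : (p : AddMonoid.End A) * g * 1 * r = 0 := by
      refine AddMonoidHom.ext fun a => ?_
      rw [mul_one, mul_assoc]
      exact hA _
    rw [this, add_zero] at hr
    exact (add_eq_right.mp hr.symm)
  have step : ∀ k, Nat.card {a : A // (g ^ (k + 1)) a = 0} ≤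
      Nat.card {a : A // g a = 0} * Nat.card {a : A // (g ^ k) a = 0} := by
    intro k
    let μ : {a : A // (g ^ (k + 1)) a = 0} → {a : A // (g ^ k) a = 0} := fun a => ⟨g a, by
      have h := a.2; simp only [pow_succ] at h; exact h⟩
    have hex : ∀ b ∈ Set.range μ, ∃ a, μ a = b := fun b hb => hb
    haveI : Nonempty {a : A // (g ^ (k + 1)) a = 0} := ⟨⟨0, map_zero _⟩⟩
    choose! sec hsec using hex
    let e : {a : A // (g ^ (k + 1)) a = 0} → {a : A // g a = 0} × {a : A // (g ^ k) a = 0} :=
      fun a => (⟨(a : A) - (sec (μ a) : A), by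
        have h : g (sec (μ a) : A) = g a := congrArg Subtype.val (hsec (μ a) ⟨a, rfl⟩)
        rw [map_sub, h, sub_self]⟩, μ a)
    have hinj : Function.Injective e := by
      intro x y h
      have h1 : μ x = μ y := congrArg Prod.snd h
      have h2 : (x : A) - (sec (μ x) : A) = (y : A) - (sec (μ y) : A) :=
        congrArg Subtype.val (congrArg Prod.fst h)
      rw [h1] at h2
      exact Subtype.ext (sub_left_inj.mp h2)
    have := Nat.card_le_card_of_injective e hinj
    rwa [Nat.card_prod] at this
  have hall : ∀ k, Nat.card {a : A // (g ^ k) a = 0} ≤ Nat.card {a : A // g a = 0} ^ k := by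
    intro k
    induction k with
    | zero =>
      rw [pow_zero, pow_zero]
      exact le_of_eq (Nat.card_eq_one_iff_unique.mpr ⟨⟨fun a b => Subtype.ext (a.2.trans b.2.symm)⟩, ⟨⟨0, rfl⟩⟩⟩)
    | succ k ih => exact (step k).trans (by rw [pow_succ']; exact Nat.mul_le_mul_left _ ih)
  have h := hall p
  rw [Nat.card_congr (Equiv.subtypeUnivEquiv fun a => by rw [hgp]; rfl)] at h
  refine h.trans (le_of_eq ?_)
  rw [Nat.card_congr (Equiv.subtypeEquivRight fun a => show g a = 0 ↔ f a = a from sub_eq_zero (a := f a) (b := a))]

end Cfsg.Agent.Alperin23
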