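import Cfsg.Agent.Lib.LieFpf.Assoc

/-!
# Kreknin's theorem for a Lie ring with an automorphism of prime order whose fixed points have bounded exponent
-/

set_option autoImplicit false
set_option linter.style.haveILetI false

namespace Cfsg.Agent.Alperin23

open Cfsg.Agent.LieFpf
open scoped TensorProduct

universe u

variable {M : Type u} [LieRing M]

/-- The derived series of a Lie ring, as additive subgroups. -/
def Ls (M : Type u) [LieRing M] : ℕ → AddSubgroup M
  | 0 => ⊤
  | n + 1 => AddSubgroup.closure {z | ∃ x ∈ Ls M n, ∃ y ∈ Ls M n, ⁅x, y⁆ = z}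

theorem lie_mem_Ls {n : ℕ} {x y : M} (hx : x ∈ Ls M n) (hy : y ∈ Ls M n) : ⁅x, y⁆ ∈ Ls M (n + 1) :=
  AddSubgroup.subset_closure ⟨x, hx, y, hy, rfl⟩

theorem Ls_succ_le : ∀ n, Ls M (n + 1) ≤ Ls M n := by
  intro n
  induction n with
  | zero => exact le_top
  | succ n ih =>
    refine AddSubgroup.closure_mono ?_
    rintro z ⟨x, hx, y, hy, rfl⟩
    exact ⟨x, ih hx, y, ih hy, rfl⟩

/-- Kreknin: the derived series becomes torsion. -/
theorem derived_torsion {p : ℕ} [Fact p.Prime] (φ : M →+ M) (hlie : ∀ x y, φ ⁅x, y⁆ = ⁅φ x, φ y⁆)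
    (hper : ∀ x, φ^[p] x = x) (N : ℕ) (hfix : ∀ x, φ x = x → N • x = 0) :
    ∀ z ∈ Ls M (2 ^ (p - 1) - 1), ((p * N) ^ 2 ^ (2 ^ (p - 1) - 1)) • z = 0 := by
  have hp : p.Prime := Fact.out
  let ω : Cyc p := AdjoinRoot.root _
  have hgeo : ∑ i ∈ Finset.range p, ω ^ i = 0 := by
    have h2 : (∑ i ∈ Finset.range p, Polynomial.X ^ i : Polynomial ℤ).eval₂
        (AdjoinRoot.of (Polynomial.cyclotomic p ℤ)) ω = 0 := by
      rw [← Polynomial.cyclotomic_prime]
      exact AdjoinRoot.eval₂_root _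
    simpa [Polynomial.eval₂_finsetSum, Polynomial.eval₂_pow, Polynomial.eval₂_X] using h2
  have hωp : ω ^ p = 1 := by
    have h := geom_sum_mul ω p
    rw [hgeo, zero_mul] at h
    exact (sub_eq_zero.mp h.symm)
  have hm : (Polynomial.cyclotomic p ℤ).Monic := Polynomial.cyclotomic.monic p ℤ
  let pb := AdjoinRoot.powerBasis' hm
  let Φ : Cyc p ⊗[ℤ] M →ₗ[Cyc p] Cyc p ⊗[ℤ] M := φ.toIntLinearMap.baseChange (Cyc p)
  have hΦt : ∀ (s : Cyc p) (m : M), Φ (s ⊗ₜ m) = s ⊗ₜ φ m := fun s m => rfl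
  have L0 : ∀ x : Cyc p ⊗[ℤ] M, ⁅x, (0 : Cyc p ⊗[ℤ] M)⁆ = 0 := fun x => lie_zero x
  have La : ∀ x a b : Cyc p ⊗[ℤ] M, ⁅x, a + b⁆ = ⁅x, a⁆ + ⁅x, b⁆ := fun x a b => lie_add x a b
  have hΦlie : ∀ x y, Φ ⁅x, y⁆ = ⁅Φ x, Φ y⁆ := by
    intro x y
    induction x using TensorProduct.induction_on with
    | zero => simp
    | add a b ha hb => simp [add_lie, ha, hb]
    | tmul s m =>
      induction y using TensorProduct.induction_on with
      | zero => rw [L0, map_zero, L0]
      | add a b ha hb => rw [La, map_add, map_add, ha, hb, La]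
      | tmul t m' =>
        rw [LieAlgebra.ExtendScalars.bracket_tmul, hΦt, hΦt, hΦt, hlie,
          LieAlgebra.ExtendScalars.bracket_tmul]
  have hbil : ∀ (s t : Cyc p) (x y : Cyc p ⊗[ℤ] M), ⁅s • x, t • y⁆ = (s * t) • ⁅x, y⁆ := by
    intro s t x y
    induction x using TensorProduct.induction_on with
    | zero => rw [smul_zero, zero_lie, zero_lie, smul_zero]
    | add a b ha hb => rw [smul_add, add_lie, add_lie, smul_add, ha, hb]
    | tmul u m =>
      induction y using TensorProduct.induction_on with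
      | zero => rw [smul_zero, L0, L0, smul_zero]
      | add a b ha hb => rw [smul_add, La, La, smul_add, ha, hb]
      | tmul v m' =>
        simp only [TensorProduct.smul_tmul', smul_eq_mul, LieAlgebra.ExtendScalars.bracket_tmul]
        congr 1
        ring
  have hnbil : ∀ (a b : ℕ) (x y : Cyc p ⊗[ℤ] M), ⁅a • x, b • y⁆ = (a * b) • ⁅x, y⁆ := by
    intro a b x y
    rw [← Nat.cast_smul_eq_nsmul (Cyc p) a x, ← Nat.cast_smul_eq_nsmul (Cyc p) b y, hbil, ← Nat.cast_mul,
      Nat.cast_smul_eq_nsmul]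
  have hiter : ∀ (k : ℕ) (s : Cyc p) (m : M), (Φ ^ k) (s ⊗ₜ m) = s ⊗ₜ (φ^[k] m) := by
    intro k
    induction k with
    | zero => intro s m; rfl
    | succ k ih => intro s m; rw [pow_succ', Module.End.mul_apply, ih, hΦt, Function.iterate_succ_apply']
  have hΦp : Φ ^ p = 1 := by
    refine LinearMap.ext fun x => ?_
    induction x using TensorProduct.induction_on with
    | zero => simp
    | add a b ha hb => simp [ha, hb]
    | tmul s m => rw [hiter, hper]; rfl
  -- coordinates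
  let e := TensorProduct.equivFinsuppOfBasisLeft (N := M) pb.basis
  have he : ∀ (x : Cyc p ⊗[ℤ] M) i, e (Φ x) i = φ (e x i) := by
    intro x i
    induction x using TensorProduct.induction_on with
    | zero => simp
    | add a b ha hb => rw [map_add, map_add, Finsupp.add_apply, ha, hb, map_add, Finsupp.add_apply, map_add]
    | tmul s m =>
      rw [hΦt, TensorProduct.equivFinsuppOfBasisLeft_apply_tmul_apply,
        TensorProduct.equivFinsuppOfBasisLeft_apply_tmul_apply, map_zsmul]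
  have hfix' : ∀ x : Cyc p ⊗[ℤ] M, Φ x = x → N • x = 0 := by
    intro x hx
    refine e.injective (Finsupp.ext fun i => ?_)
    rw [map_nsmul, Finsupp.smul_apply, map_zero, Finsupp.zero_apply]
    exact hfix _ (by rw [← he, hx])
  have hinj : ∀ z : M, (1 : Cyc p) ⊗ₜ[ℤ] z = 0 → z = 0 := by
    intro z hz
    have hdim : 0 < pb.dim := by
      rw [show pb.dim = _ from AdjoinRoot.powerBasis'_dim hm, Polynomial.natDegree_cyclotomic]
      exact Nat.totient_pos.mpr hp.pos
    have h1 : pb.basis ⟨0, hdim⟩ = 1 := by simp [PowerBasis.basis_eq_pow]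
    have h2 : e ((1 : Cyc p) ⊗ₜ[ℤ] z) ⟨0, hdim⟩ = 0 := by rw [hz, map_zero, Finsupp.zero_apply]
    rw [TensorProduct.equivFinsuppOfBasisLeft_apply_tmul_apply, ← h1, Module.Basis.repr_self,
      Finsupp.single_eq_same, one_smul] at h2
    exact h2
  let L : ZMod p → AddSubgroup (Cyc p ⊗[ℤ] M) := fun a =>
    { carrier := {x | Φ x = ω ^ a.val • x}
      add_mem' := fun {x y} hx hy => show Φ (x + y) = _ by rw [map_add, hx, hy, smul_add]
      zero_mem' := show Φ 0 = _ by rw [map_zero, smul_zero]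
      neg_mem' := fun {x} hx => show Φ (-x) = _ by rw [map_neg, hx, smul_neg] }
  let F : ZMod p → AddSubgroup (Cyc p ⊗[ℤ] M) := fun a => (L a).map (nsmulAddMonoidHom N)
  have hF : Graded F := by
    refine ⟨?_, ?_⟩
    · refine (AddSubgroup.eq_bot_iff_forall _).mpr ?_
      rintro _ ⟨x, hx, rfl⟩
      exact hfix' x (by simpa [L] using hx)
    · rintro a b _ ⟨x, hx, rfl⟩ _ ⟨y, hy, rfl⟩
      refine ⟨N • ⁅x, y⁆, nsmul_mem ?_ N, ?_⟩
      · show Φ ⁅x, y⁆ = _
        rw [hΦlie, show Φ x = _ from hx, show Φ y = _ from hy, hbil, ← pow_add,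
          ZMod.val_add, ← pow_eq_pow_mod _ hωp]
      · show N • (N • ⁅x, y⁆) = ⁅N • x, N • y⁆
        rw [hnbil, mul_smul]
  have hzero : ∀ k, 0 < k → k < p → ∑ j ∈ Finset.range p, (ω ^ k) ^ j = 0 := by
    intro k hk hkp
    have hk' : (k : ZMod p) ≠ 0 := by
      rw [Ne, ZMod.natCast_eq_zero_iff]
      exact Nat.not_dvd_of_pos_of_lt hk hkp
    rw [← hgeo]
    refine Finset.sum_bij (fun j _ => ((k : ZMod p) * (j : ZMod p)).val) ?_ ?_ ?_ ?_
    · intro j _; exact Finset.mem_range.mpr (ZMod.val_lt _)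
    · intro j₁ h₁ j₂ h₂ e
      have := mul_left_cancel₀ hk' (ZMod.val_injective p e)
      have e' := congrArg ZMod.val this
      rwa [ZMod.val_natCast_of_lt (Finset.mem_range.mp h₁), ZMod.val_natCast_of_lt (Finset.mem_range.mp h₂)] at e'
    · intro b hb
      refine ⟨((k : ZMod p)⁻¹ * (b : ZMod p)).val, Finset.mem_range.mpr (ZMod.val_lt _), ?_⟩
      show ((k : ZMod p) * _).val = b
      rw [ZMod.natCast_val, ZMod.cast_id, ← mul_assoc, mul_inv_cancel₀ hk', one_mul,
        ZMod.val_natCast_of_lt (Finset.mem_range.mp hb)]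
    · intro j _
      show (ω ^ k) ^ j = ω ^ ((k : ZMod p) * (j : ZMod p)).val
      rw [← Nat.cast_mul, ZMod.val_natCast, ← pow_eq_pow_mod _ hωp, pow_mul]
  have htop : ∀ w : Cyc p ⊗[ℤ] M, (p * N) • w ∈ ⨆ a, F a := by
    intro w
    let P : ℕ → Cyc p ⊗[ℤ] M := fun j => ∑ k ∈ Finset.range p, (ω ^ (j * k)) • (Φ ^ k) w
    have hP : ∀ j < p, N • P j ∈ ⨆ a, F a := by
      intro j hj
      refine AddSubgroup.mem_iSup_of_mem (-(j : ZMod p)) ⟨P j, ?_, rfl⟩
      show Φ (P j) = ω ^ (-(j : ZMod p)).val • P j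
      have h1 : ω ^ j • Φ (P j) = P j := by
        simp only [P, map_sum, Finset.smul_sum, map_smul, smul_smul, ← pow_add, ← Module.End.mul_apply, ← pow_succ']
        have h2 := Finset.sum_range_succ' (fun k => (ω ^ (j * k)) • (Φ ^ k) w) p
        rw [Finset.sum_range_succ, mul_zero, pow_zero, pow_zero, mul_comm j p, pow_mul, hωp, one_pow, hΦp] at h2
        rw [add_right_cancel h2]
        exact Finset.sum_congr rfl fun k _ => by rw [mul_add, mul_one, add_comm (j * k) j]
      conv_rhs => rw [← h1]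
      rw [smul_smul, ← pow_add, pow_eq_pow_mod _ hωp]
      have : ((-(j : ZMod p)).val + j) % p = 0 := by
        rw [← ZMod.val_natCast, Nat.cast_add, ZMod.natCast_val, ZMod.cast_id, neg_add_cancel, ZMod.val_zero]
      rw [this, pow_zero, one_smul]
    have hsum : ∑ j ∈ Finset.range p, P j = p • w := by
      simp only [P]
      rw [Finset.sum_comm, Finset.sum_eq_single 0]
      · simp
      · intro k hk hk0
        rw [← Finset.sum_smul]
        simp only [mul_comm _ k, pow_mul]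
        rw [hzero k (Nat.pos_of_ne_zero hk0) (Finset.mem_range.mp hk), zero_smul]
      · intro h; exact absurd (Finset.mem_range.mpr hp.pos) h
    rw [mul_comm, mul_smul, ← hsum, Finset.smul_sum]
    exact sum_mem fun j hj => hP j (Finset.mem_range.mp hj)
  have hser : ∀ n : ℕ, ∀ z ∈ Ls M n, ((p * N) ^ 2 ^ n) • ((1 : Cyc p) ⊗ₜ[ℤ] z) ∈ ⨆ a, D F n a := by
    intro n
    induction n with
    | zero =>
      intro z _
      rw [pow_zero, pow_one]
      exact htop _
    | succ n ih =>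
      intro z hz
      induction hz using AddSubgroup.closure_induction with
      | zero => rw [TensorProduct.tmul_zero, smul_zero]; exact zero_mem _
      | add a b _ _ ha hb => rw [TensorProduct.tmul_add, smul_add]; exact add_mem ha hb
      | neg a _ ha => rw [TensorProduct.tmul_neg, smul_neg]; exact neg_mem ha
      | mem z hz =>
        obtain ⟨x, hx, y, hy, rfl⟩ := hz
        rw [show (2 : ℕ) ^ (n + 1) = 2 ^ n + 2 ^ n by rw [pow_succ]; ring, pow_add, ← one_mul (1 : Cyc p),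
          ← LieAlgebra.ExtendScalars.bracket_tmul, ← hnbil]
        have hu := ih x hx
        have hv := ih y hy
        generalize ((p * N) ^ 2 ^ n) • ((1 : Cyc p) ⊗ₜ[ℤ] x) = u at hu ⊢
        generalize ((p * N) ^ 2 ^ n) • ((1 : Cyc p) ⊗ₜ[ℤ] y) = v at hv ⊢
        refine AddSubgroup.iSup_induction (fun a => D F n a)
          (C := fun u => ⁅u, v⁆ ∈ ⨆ a, D F (n + 1) a) hu (fun a u hu => ?_) ?_ fun u₁ u₂ h₁ h₂ => ?_
        · refine AddSubgroup.iSup_induction (fun a => D F n a)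
            (C := fun v => ⁅u, v⁆ ∈ ⨆ a, D F (n + 1) a) hv (fun b v hv => ?_) ?_ fun v₁ v₂ h₁ h₂ => ?_
          · exact AddSubgroup.mem_iSup_of_mem (a + b) (mem_T hu hv)
          · rw [L0]; exact zero_mem _
          · rw [La]; exact add_mem h₁ h₂
        · show ⁅(0 : Cyc p ⊗[ℤ] M), v⁆ ∈ _
          rw [show ⁅(0 : Cyc p ⊗[ℤ] M), v⁆ = 0 from zero_lie v]; exact zero_mem _
        · rw [show ⁅u₁ + u₂, v⁆ = ⁅u₁, v⁆ + ⁅u₂, v⁆ from add_lie u₁ u₂ v]; exact add_mem h₁ h₂
  intro z hz
  have h := hser _ z hz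
  simp only [kreknin hF, iSup_bot, AddSubgroup.mem_bot] at h
  rw [← TensorProduct.tmul_smul] at h
  exact hinj _ h

end Cfsg.Agent.Alperin23
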