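import Cfsg.Agent.Lib.Alperin23.Segment
import Cfsg.Agent.Lib.OddLocal.Puig
import Mathlib.GroupTheory.Perm.ViaEmbedding

/-!
# A `p`-group with an automorphism of order `p` with few fixed points, `p` odd
-/

set_option autoImplicit false
set_option linter.style.haveILetI false
set_option maxHeartbeats 1000000

namespace Cfsg.Agent.Alperin23

open scoped commutatorElement

universe u

variable {P : Type u} [Group P] {p : ℕ} [hp : Fact p.Prime]

theorem normal_of_invariant (H : Subgroup P) (h : ∀ θ : MulAut P, ∀ x ∈ H, θ x ∈ H) : H.Normal :=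
  ⟨fun x hx g => h (MulAut.conj g) x hx⟩

theorem map_eq_of_invariant [Finite P] (H : Subgroup P) (h : ∀ θ : MulAut P, ∀ x ∈ H, θ x ∈ H) (θ : MulAut P) :
    H.map θ.toMonoidHom = H := by
  refine le_antisymm (Subgroup.map_le_iff_le_comap.mpr fun x hx => h θ x hx) fun x hx => ?_
  exact ⟨θ⁻¹ x, h θ⁻¹ x hx, MulAut.apply_inv_self _ _ _⟩

theorem eq_bot_of_le_commutator [Finite P] (hP : IsPGroup p P) {H : Subgroup P} [H.Normal]
    (h : H ≤ ⁅H, (⊤ : Subgroup P)⁆) : H = ⊥ := by
  haveI := hP.isNilpotent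
  obtain ⟨n, hn⟩ := (Subgroup.isNilpotent_iff_lowerCentralSeries (S := (⊤ : Subgroup P))).mp inferInstance
  have key : ∀ k, H ≤ (⊤ : Subgroup P).lowerCentralSeries k := by
    intro k
    induction k with
    | zero => exact le_top
    | succ k ih => exact h.trans (Subgroup.commutator_mono ih le_rfl)
  exact le_bot_iff.mp ((key n).trans hn.le)

/-- An invariant elementary abelian section is small. -/
theorem card_section_le [Finite P] (α : MulAut P) (hα : α ^ p = 1) {n : ℕ}
    (hfix : Nat.card {g : P // α g = g} ≤ p ^ n) (A B : Subgroup P) [B.Normal]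
    (hB : B.map α.toMonoidHom = B) (hA : ∀ x ∈ A, α x ∈ A) (hAc : ∀ x ∈ A, ∀ y ∈ A, ⁅x, y⁆ ∈ B)
    (hAp : ∀ x ∈ A, x ^ p ∈ B) : Nat.card (A.map (QuotientGroup.mk' B)) ≤ p ^ (n * p) := by
  set A' := A.map (QuotientGroup.mk' B)
  letI : CommGroup A' := { (inferInstance : Group A') with
    mul_comm := by
      rintro ⟨_, x, hx, rfl⟩ ⟨_, y, hy, rfl⟩
      refine Subtype.ext (commutatorElement_eq_one_iff_mul_comm.mp ?_)
      rw [← map_commutatorElement]
      exact (QuotientGroup.eq_one_iff _).mpr (hAc x hx y hy) }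
  set β := quotAut B α hB
  have hβ : ∀ y ∈ A', β y ∈ A' := by
    rintro _ ⟨x, hx, rfl⟩
    exact ⟨α x, hA x hx, rfl⟩
  let f : Additive A' →+ Additive A' := MonoidHom.toAdditive
    (MonoidHom.mk' (fun y : A' => (⟨β y, hβ y y.2⟩ : A')) fun a b => Subtype.ext (map_mul β (a : P ⧸ B) b))
  have hf : ∀ (k : ℕ) (a : Additive A'),
      ((Additive.toMul (f^[k] a) : A') : P ⧸ B) = (β ^ k) ((Additive.toMul a : A') : P ⧸ B) := by
    intro k
    induction k with
    | zero => intro a; rfl
    | succ k ih =>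
      intro a
      rw [Function.iterate_succ_apply', pow_succ', MulAut.mul_apply, ← ih]
      rfl
  have h1 := card_le_fixed_pow (Additive A') (p := p) (fun a => by
    refine Additive.toMul.injective (Subtype.ext ?_)
    obtain ⟨x, hx, hxa⟩ := (Additive.toMul a : A').2
    show ((Additive.toMul a : A') : P ⧸ B) ^ p = 1
    rw [← hxa, ← map_pow]
    exact (QuotientGroup.eq_one_iff _).mpr (hAp x hx)) f (fun a => by
      refine Additive.toMul.injective (Subtype.ext ?_)
      rw [hf, quotAut_pow B α hB hα]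
      rfl)
  have h2 : Nat.card {a : Additive A' // f a = a} ≤ Nat.card {y : P ⧸ B // β y = y} :=
    Nat.card_le_card_of_injective
      (fun a => ⟨((Additive.toMul a.1 : A') : P ⧸ B),
        congrArg (fun z => ((Additive.toMul z : A') : P ⧸ B)) a.2⟩)
      fun a b h => Subtype.ext (Additive.toMul.injective (Subtype.ext (Subtype.mk.inj h)))
  rw [pow_mul]
  exact le_trans (le_of_eq (Nat.card_congr Additive.ofMul)) (h1.trans (Nat.pow_le_pow_left
    ((h2.trans (card_fixed_quot B α hB)).trans hfix) p))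

/-- Fixed points modulo an invariant normal subgroup are killed by `p ^ n`. -/
theorem pow_fixed_mem [Finite P] (hP : IsPGroup p P) (α : MulAut P) {n : ℕ}
    (hfix : Nat.card {g : P // α g = g} ≤ p ^ n) (B : Subgroup P) [B.Normal] (hB : B.map α.toMonoidHom = B)
    (x : P) (hx : (α x)⁻¹ * x ∈ B) : x ^ p ^ n ∈ B := by
  set F := (quotAut B α hB).toMonoidHom.eqLocus (MonoidHom.id (P ⧸ B))
  have hxF : ((x : P) : P ⧸ B) ∈ F := QuotientGroup.eq.mpr hx
  obtain ⟨a, ha⟩ := ((hP.to_quotient B).to_subgroup F).exists_card_eq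
  have hle : a ≤ n := by
    refine (Nat.pow_le_pow_iff_right hp.out.one_lt).mp (ha ▸ ?_)
    exact (Nat.card_congr (Equiv.subtypeEquivRight fun y => Iff.rfl)).le.trans
      ((card_fixed_quot B α hB).trans hfix)
  refine (QuotientGroup.eq_one_iff _).mp ?_
  rw [QuotientGroup.mk_pow]
  refine orderOf_dvd_iff_pow_eq_one.mp (dvd_trans ?_ (pow_dvd_pow p hle))
  rw [← ha]
  exact F.orderOf_dvd_natCard hxF

/-- The common kernel of the actions on `r` points. -/
def kerCore (P : Type u) [Group P] (r : ℕ) : Subgroup P := ⨅ φ : P →* Equiv.Perm (Fin r), φ.ker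

/-- The lower exponent-`p` series of a subgroup. -/
def Kser (p : ℕ) (K : Subgroup P) : ℕ → Subgroup P
  | 0 => K
  | i + 1 => ⁅Kser p K i, K⁆ ⊔ Subgroup.closure ((fun x => x ^ p) '' (Kser p K i : Set P))

section Series

variable {K : Subgroup P} (hK : ∀ θ : MulAut P, ∀ x ∈ K, θ x ∈ K)
include hK

omit hp in
theorem Kser_invariant : ∀ (i : ℕ) (θ : MulAut P), ∀ x ∈ Kser p K i, θ x ∈ Kser p K i := by
  intro i
  induction i with
  | zero => exact hK
  | succ i ih =>
    intro θ
    have key : ⁅Kser p K i, K⁆ ⊔ Subgroup.closure ((fun x => x ^ p) '' (Kser p K i : Set P)) ≤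
        (Kser p K (i + 1)).comap θ.toMonoidHom := by
      refine sup_le ?_ ?_
      · refine Subgroup.commutator_le.mpr fun a ha b hb => ?_
        show θ ⁅a, b⁆ ∈ Kser p K (i + 1)
        rw [map_commutatorElement]
        exact Subgroup.mem_sup_left (Subgroup.commutator_mem_commutator (ih θ a ha) (hK θ b hb))
      · refine (Subgroup.closure_le _).mpr ?_
        rintro _ ⟨a, ha, rfl⟩
        show θ (a ^ p) ∈ Kser p K (i + 1)
        rw [map_pow]
        exact Subgroup.mem_sup_right (Subgroup.subset_closure ⟨θ a, ih θ a ha, rfl⟩)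
    exact fun x hx => key hx

omit hp in
theorem Kser_normal (i : ℕ) : (Kser p K i).Normal := normal_of_invariant _ (Kser_invariant hK i)

omit hp in
theorem Kser_pow {i : ℕ} {x : P} (hx : x ∈ Kser p K i) : x ^ p ∈ Kser p K (i + 1) :=
  Subgroup.mem_sup_right (Subgroup.subset_closure ⟨x, hx, rfl⟩)

omit hp in
theorem Kser_succ_le (i : ℕ) : Kser p K (i + 1) ≤ Kser p K i := by
  haveI := Kser_normal (p := p) hK i
  refine sup_le (Subgroup.commutator_le_left _ _) ((Subgroup.closure_le _).mpr ?_)
  rintro _ ⟨a, ha, rfl⟩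
  exact pow_mem ha p

omit hp in
theorem Kser_anti {a b : ℕ} (h : a ≤ b) : Kser p K b ≤ Kser p K a := by
  induction h with
  | refl => exact le_rfl
  | step _ ih => exact (Kser_succ_le hK _).trans ih

omit hp in
theorem Kser_comm : ∀ j i : ℕ, ⁅Kser p K i, Kser p K j⁆ ≤ Kser p K (i + j + 1) := by
  intro j
  induction j with
  | zero => intro i; exact le_sup_left
  | succ j ih =>
    intro i
    haveI := Kser_normal (p := p) hK (i + (j + 1) + 1)
    set π := QuotientGroup.mk' (Kser p K (i + (j + 1) + 1))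
    have key : ∀ H : Subgroup P, H ≤ Kser p K (i + (j + 1) + 1) → H.map π = ⊥ := fun H hH => by
      rw [Subgroup.map_eq_bot_iff, QuotientGroup.ker_mk']; exact hH
    rw [Subgroup.commutator_comm, ← QuotientGroup.ker_mk' (Kser p K (i + (j + 1) + 1)), ← Subgroup.map_eq_bot_iff,
      Subgroup.map_commutator, Subgroup.commutator_eq_bot_iff_le_centralizer, Subgroup.map_le_iff_le_comap]
    refine sup_le ?_ ?_
    · rw [← Subgroup.map_le_iff_le_comap, ← Subgroup.commutator_eq_bot_iff_le_centralizer, Subgroup.map_commutator]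
      refine Subgroup.commutator_commutator_eq_bot_of_rotate ?_ ?_
      · rw [← Subgroup.map_commutator, ← Subgroup.map_commutator]
        refine key _ ((Subgroup.commutator_mono ((Subgroup.commutator_comm K (Kser p K i)).le.trans
          le_sup_left) le_rfl).trans ((ih (i + 1)).trans (Kser_anti hK (by omega))))
      · rw [← Subgroup.map_commutator, ← Subgroup.map_commutator]
        refine key _ ((Subgroup.commutator_mono (ih i) le_rfl).trans ?_)
        exact (le_sup_left (b := Subgroup.closure ((fun x => x ^ p) '' (Kser p K (i + j + 1) : Set P)))).trans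
          (Kser_anti hK (show i + (j + 1) + 1 ≤ i + j + 1 + 1 by omega))
    · refine (Subgroup.closure_le _).mpr ?_
      rintro _ ⟨y, hy, rfl⟩
      show π (y ^ p) ∈ Subgroup.centralizer _
      rw [Subgroup.mem_centralizer_iff]
      rintro _ ⟨x, hx, rfl⟩
      have hc : ⁅y, x⁆ ∈ Kser p K (i + j + 1) :=
        ih i (by rw [Subgroup.commutator_comm]; exact Subgroup.commutator_mem_commutator hy hx)
      have h1 : Commute (π y) ⁅π y, π x⁆ := by
        rw [← map_commutatorElement, ← commutatorElement_eq_one_iff_commute, ← map_commutatorElement]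
        refine (QuotientGroup.eq_one_iff _).mpr (Kser_anti hK (show i + (j + 1) + 1 ≤ i + j + 1 + j + 1 by omega) ?_)
        exact ih (i + j + 1) (by rw [Subgroup.commutator_comm]; exact Subgroup.commutator_mem_commutator hy hc)
      have h2 : ⁅π y ^ p, π x⁆ = 1 := by
        rw [Transfer.commutator_pow_left h1, ← map_commutatorElement, ← map_pow]
        exact (QuotientGroup.eq_one_iff _).mpr (Kser_anti hK (by omega) (Kser_pow hK hc))
      rw [map_pow]
      exact (commutatorElement_eq_one_iff_commute.mp h2).symm.eq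

/-- The series as a `Ser`. -/
def kSer : Ser p P where
  Q := Kser p K
  normal := Kser_normal hK
  succ_le := Kser_succ_le hK
  comm := fun {i j _ _} hx hy => Kser_comm hK j i (Subgroup.commutator_mem_commutator hx hy)
  pow_mem := fun {_ _} hx => Kser_pow hK hx

theorem Kser_eq_bot [Finite P] (hP : IsPGroup p P) {i : ℕ} (h : Kser p K i ≤ Kser p K (i + 1)) :
    Kser p K i = ⊥ := by
  haveI := Kser_normal (p := p) hK i
  refine eq_bot_of_le_commutator hP ?_
  set N := ⁅Kser p K i, (⊤ : Subgroup P)⁆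
  haveI : N.Normal := Subgroup.commutator_normal _ _
  set π := QuotientGroup.mk' N
  set A := (Kser p K i).map π with hA
  have hcomm : ∀ a ∈ A, ∀ b, a * b = b * a := by
    rintro _ ⟨x, hx, rfl⟩ b
    obtain ⟨y, rfl⟩ := QuotientGroup.mk'_surjective N b
    refine commutatorElement_eq_one_iff_mul_comm.mp ?_
    rw [← map_commutatorElement]
    exact (QuotientGroup.eq_one_iff _).mpr (Subgroup.commutator_mem_commutator hx (Subgroup.mem_top y))
  let f : A →* A := MonoidHom.mk' (fun a => a ^ p) fun a b => Subtype.ext (by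
    simp only [SubgroupClass.coe_pow, Subgroup.coe_mul]
    exact (show Commute (a : P ⧸ N) (b : P ⧸ N) from hcomm _ a.2 _).mul_pow p)
  have hsurj : Function.Surjective f := by
    rintro ⟨_, x, hx, rfl⟩
    have key : Kser p K (i + 1) ≤ (f.range.map A.subtype).comap π := by
      refine sup_le (fun z hz => ?_) ((Subgroup.closure_le _).mpr ?_)
      · have hz' : z ∈ N := Subgroup.commutator_mono le_rfl le_top hz
        show π z ∈ f.range.map A.subtype
        rw [show π z = 1 from (QuotientGroup.eq_one_iff z).mpr hz']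
        exact one_mem _
      · rintro _ ⟨a, ha, rfl⟩
        exact ⟨⟨π a, Subgroup.mem_map_of_mem π ha⟩ ^ p, ⟨⟨π a, Subgroup.mem_map_of_mem π ha⟩, rfl⟩,
          (map_pow π a p).symm⟩
    obtain ⟨a, ⟨b, hb⟩, ha⟩ := key (h hx)
    exact ⟨b, Subtype.ext ((congrArg Subtype.val hb).trans ha)⟩
  have hinj := Finite.injective_iff_surjective.mpr hsurj
  intro x hx
  by_contra hxN
  have hne : (⟨π x, Subgroup.mem_map_of_mem π hx⟩ : A) ≠ 1 := fun e =>
    hxN ((QuotientGroup.eq_one_iff x).mp (congrArg Subtype.val e))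
  have hdvd : p ∣ Nat.card A := by
    rcases ((hP.to_quotient N).to_subgroup A).card_eq_or_dvd with h1 | h1
    · haveI := (Nat.card_eq_one_iff_unique.mp h1).1
      exact absurd (Subsingleton.elim _ _) hne
    · exact h1
  obtain ⟨a, ha⟩ := exists_prime_orderOf_dvd_card' p hdvd
  have : a = 1 := hinj (show a ^ p = (1 : A) ^ p by rw [one_pow, ← ha, pow_orderOf_eq_one])
  rw [this, orderOf_one] at ha
  exact hp.out.one_lt.ne ha

theorem Kser_exists_bot [Finite P] (hP : IsPGroup p P) : ∃ T, Kser p K T = ⊥ := by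
  have key : ∀ k, Kser p K k = ⊥ ∨ Nat.card (Kser p K k) + k ≤ Nat.card P := by
    intro k
    induction k with
    | zero => exact Or.inr (Subgroup.card_le_card_group _)
    | succ k ih =>
      rcases ih with ih | ih
      · exact Or.inl (le_bot_iff.mp ((Kser_succ_le hK k).trans ih.le))
      · rcases eq_or_ne (Kser p K k) ⊥ with h0 | h0
        · exact Or.inl (le_bot_iff.mp ((Kser_succ_le hK k).trans h0.le))
        · have : Nat.card (Kser p K (k + 1)) < Nat.card (Kser p K k) := by
            refine lt_of_le_of_ne (Subgroup.card_le_of_le (Kser_succ_le hK k)) fun he => h0 ?_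
            exact Kser_eq_bot hK hP (Subgroup.eq_of_le_of_card_ge (Kser_succ_le hK k) he.ge).ge
          omega
  refine ⟨Nat.card P, (key _).resolve_right fun h => ?_⟩
  have : 0 < Nat.card (Kser p K (Nat.card P)) := Nat.card_pos
  omega

theorem card_Kser_section_le [Finite P] (α : MulAut P) (hα : α ^ p = 1) {n : ℕ}
    (hfix : Nat.card {g : P // α g = g} ≤ p ^ n) (i : ℕ) :
    (Kser p K (i + 1)).relIndex (Kser p K i) ≤ p ^ (n * p) := by
  haveI := Kser_normal (p := p) hK (i + 1)
  rw [← QuotientGroup.ker_mk' (Kser p K (i + 1)), Subgroup.relIndex_ker]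
  exact card_section_le α hα hfix (Kser p K i) (Kser p K (i + 1))
    (map_eq_of_invariant _ (Kser_invariant hK (i + 1)) α) (Kser_invariant hK i α)
    (fun x hx y hy => Kser_anti hK (show i + 1 ≤ i + i + 1 by omega) (Kser_comm hK i i (Subgroup.commutator_mem_commutator hx hy)))
    (fun x hx => Kser_pow hK hx)

end Series

variable [Finite P]

theorem kerCore_invariant (r : ℕ) : ∀ θ : MulAut P, ∀ x ∈ kerCore P r, θ x ∈ kerCore P r := fun θ x hx =>
  Subgroup.mem_iInf.mpr fun φ => Subgroup.mem_iInf.mp hx (φ.comp θ.toMonoidHom)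

/-- The key property: the kernel core is powerful. -/
theorem powerful (hP : IsPGroup p P) (α : MulAut P) (hα : α ^ p = 1) {n : ℕ}
    (hfix : Nat.card {g : P // α g = g} ≤ p ^ n) {K : Subgroup P} (hK : K = kerCore P (p ^ (n * p))) :
    Kser p K 1 ≤ Subgroup.closure ((fun x => x ^ p) '' (K : Set P)) ⊔ Kser p K 2 := by
  have hKi : ∀ θ : MulAut P, ∀ x ∈ K, θ x ∈ K := hK ▸ kerCore_invariant _
  set N0 := Subgroup.closure ((fun x => x ^ p) '' (K : Set P)) ⊔ Kser p K 2 with hN0
  have hN0i : ∀ θ : MulAut P, ∀ x ∈ N0, θ x ∈ N0 := by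
    intro θ
    suffices N0 ≤ N0.comap θ.toMonoidHom from fun x hx => this hx
    refine sup_le ((Subgroup.closure_le _).mpr ?_) fun x hx => Subgroup.mem_sup_right (Kser_invariant hKi 2 θ x hx)
    rintro _ ⟨a, ha, rfl⟩
    show θ (a ^ p) ∈ N0
    rw [map_pow]
    exact Subgroup.mem_sup_left (Subgroup.subset_closure ⟨θ a, hKi θ a ha, rfl⟩)
  have hN1 : N0 ≤ Kser p K 1 := sup_le le_sup_right (Kser_succ_le hKi 1)
  by_contra hcon
  obtain ⟨L, ⟨hLn, hNL, hL1, hLne⟩, hmax⟩ := (Set.toFinite
    {L : Subgroup P | L.Normal ∧ N0 ≤ L ∧ L ≤ Kser p K 1 ∧ L ≠ Kser p K 1}).exists_maximal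
      ⟨N0, normal_of_invariant _ hN0i, le_rfl, hN1, fun h => hcon h.ge⟩
  haveI := Kser_normal (p := p) hKi 1
  haveI := hLn
  set π := QuotientGroup.mk' L with hπ
  set Z := (Kser p K 1).map π with hZ
  haveI : Z.Normal := Subgroup.Normal.map inferInstance _ (QuotientGroup.mk'_surjective L)
  have hPq := hP.to_quotient L
  have hmax' : ∀ W : Subgroup (P ⧸ L), W.Normal → W ≤ Z → W = ⊥ ∨ W = Z := by
    intro W hW hWZ
    by_cases heq : W.comap π = Kser p K 1
    · exact Or.inr (by rw [hZ, ← heq, Subgroup.map_comap_eq_self_of_surjective (QuotientGroup.mk'_surjective L)])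
    · left
      have hle : L ≤ W.comap π := by
        intro x hx
        show π x ∈ W
        rw [show π x = 1 from (QuotientGroup.eq_one_iff x).mpr hx]
        exact one_mem _
      have hle1 : W.comap π ≤ Kser p K 1 := by
        refine (Subgroup.comap_mono hWZ).trans ?_
        rw [hZ, Subgroup.comap_map_eq, QuotientGroup.ker_mk', sup_eq_left.mpr hL1]
      have h2 : W.comap π = L := le_antisymm (hmax ⟨hW.comap π, hNL.trans hle, hle1, heq⟩ hle) hle
      rw [← Subgroup.map_comap_eq_self_of_surjective (QuotientGroup.mk'_surjective L) W, h2,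
        Subgroup.map_eq_bot_iff, QuotientGroup.ker_mk']
  have hZc : ∀ z ∈ Z, z ∈ Subgroup.center (P ⧸ L) := by
    have h1 : ⁅Z, (⊤ : Subgroup (P ⧸ L))⁆ = ⊥ := by
      rcases hmax' ⁅Z, ⊤⁆ (Subgroup.commutator_normal _ _) (Subgroup.commutator_le_left _ _) with h | h
      · exact h
      · exact (Subgroup.commutator_mono (eq_bot_of_le_commutator hPq h.ge).le le_rfl).trans
          (Subgroup.commutator_bot_left _).le |> le_bot_iff.mp
    intro z hz
    rw [Subgroup.mem_center_iff]
    intro g
    refine (commutatorElement_eq_one_iff_mul_comm.mp ?_).symm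
    rw [← Subgroup.mem_bot, ← h1]
    exact Subgroup.commutator_mem_commutator hz (Subgroup.mem_top g)
  have hZp : Nat.card Z ≤ p := by
    by_cases hZ0 : Z = ⊥
    · rw [hZ0, Subgroup.card_bot]; exact hp.out.one_lt.le
    obtain ⟨z, hz, hz1⟩ := Z.bot_or_exists_ne_one.resolve_left hZ0
    have hzn : (Subgroup.zpowers z).Normal := ⟨fun y hy g => by
      rw [(Subgroup.mem_center_iff.mp (hZc y (Subgroup.zpowers_le.mpr hz hy)) g), mul_inv_cancel_right]
      exact hy⟩
    rcases hmax' _ hzn (Subgroup.zpowers_le.mpr hz) with h | h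
    · exact absurd (Subgroup.zpowers_eq_bot.mp h) hz1
    · rw [← h, Nat.card_zpowers]
      obtain ⟨x, hx, rfl⟩ := hz
      refine Nat.le_of_dvd hp.out.pos (orderOf_dvd_of_pow_eq_one ?_)
      rw [← map_pow]
      exact (QuotientGroup.eq_one_iff _).mpr (hNL (Subgroup.mem_sup_right (Kser_pow hKi hx)))
  haveI := Kser_normal (p := p) hKi 0
  set Kb := K.map π with hKb
  haveI : Kb.Normal := Subgroup.Normal.map (normal_of_invariant K hKi) _ (QuotientGroup.mk'_surjective L)
  have hKcard : Nat.card Kb ≤ p * p ^ (n * p) := by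
    have e1 : Nat.card Kb = Nat.card Z * (Kser p K 1).relIndex K := by
      rw [hKb, hZ, ← Subgroup.relIndex_ker, ← Subgroup.relIndex_ker, QuotientGroup.ker_mk']
      exact (Subgroup.relIndex_mul_relIndex _ _ _ hL1 (Kser_succ_le hKi 0)).symm
    rw [e1]
    refine Nat.mul_le_mul hZp ?_
    exact card_Kser_section_le hKi α hα hfix 0
  obtain ⟨A, ⟨hAn, hAK, hAc⟩, hAmax⟩ := (Set.toFinite
    {A : Subgroup (P ⧸ L) | A.Normal ∧ A ≤ Kb ∧ ∀ a ∈ A, ∀ b ∈ A, a * b = b * a}).exists_maximal
      ⟨⊥, inferInstance, bot_le, fun a ha b hb => by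
        rw [Subgroup.mem_bot.mp ha, Subgroup.mem_bot.mp hb]⟩
  haveI := hAn
  have hAne : A ≠ Kb := by
    intro h
    refine hLne (le_antisymm hL1 (sup_le (Subgroup.commutator_le.mpr fun a ha b hb => ?_)
      (le_trans le_sup_left hNL)))
    refine (QuotientGroup.eq_one_iff (N := L) _).mp ?_
    show π ⁅a, b⁆ = 1
    rw [map_commutatorElement, commutatorElement_eq_one_iff_mul_comm]
    exact hAc _ (h ▸ Subgroup.mem_map_of_mem π ha) _ (h ▸ Subgroup.mem_map_of_mem π hb)
  have hAcard : Nat.card A ≤ p ^ (n * p) := by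
    obtain ⟨a, ha⟩ := (hPq.to_subgroup A).exists_card_eq
    obtain ⟨k, hk⟩ := (hPq.to_subgroup Kb).exists_card_eq
    have hlt : Nat.card A < Nat.card Kb := lt_of_le_of_ne (Subgroup.card_le_of_le hAK)
      fun h => hAne (Subgroup.eq_of_le_of_card_ge hAK h.ge)
    rw [ha, hk] at hlt
    rw [hk, ← pow_succ'] at hKcard
    rw [ha]
    refine Nat.pow_le_pow_right hp.out.pos ?_
    have h1 := (Nat.pow_lt_pow_iff_right hp.out.one_lt).mp hlt
    have h2 := (Nat.pow_le_pow_iff_right hp.out.one_lt).mp hKcard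
    omega
  have hcent : ∀ k ∈ Kb, ∀ a ∈ A, k * a = a * k := by
    rintro _ ⟨x, hx, rfl⟩ a ha
    classical
    haveI := Fintype.ofFinite A
    obtain ⟨ι⟩ : Nonempty (A ↪ Fin (p ^ (n * p))) := Function.Embedding.nonempty_of_card_le (by
      rw [Fintype.card_fin, ← Nat.card_eq_fintype_card]; exact hAcard)
    let act : (P ⧸ L) →* Equiv.Perm A :=
      MonoidHom.mk' (fun g => (MulAut.conjNormal (H := A) g).toEquiv) fun g g' => by
        rw [map_mul]; rfl
    let φ : P →* Equiv.Perm (Fin (p ^ (n * p))) :=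
      (Equiv.Perm.viaEmbeddingHom ι).comp (act.comp π)
    rw [hK] at hx
    have h1 : φ x = 1 := MonoidHom.mem_ker.mp (Subgroup.mem_iInf.mp hx φ)
    have h2 : act (π x) = 1 := Equiv.Perm.viaEmbeddingHom_injective ι (by rw [map_one]; exact h1)
    have h3 : π x * a * (π x)⁻¹ = a := congrArg Subtype.val (DFunLike.congr_fun h2 (⟨a, ha⟩ : A))
    exact mul_inv_eq_iff_eq_mul.mp h3
  set σ := QuotientGroup.mk' A
  haveI : (Kb.map σ).Normal := Subgroup.Normal.map inferInstance _ (QuotientGroup.mk'_surjective A)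
  have hne : Kb.map σ ≠ ⊥ := by
    rw [Ne, Subgroup.map_eq_bot_iff, QuotientGroup.ker_mk']
    exact fun h => hAne (le_antisymm hAK h)
  obtain ⟨_, ⟨b, hb, rfl⟩, hbc, hb1⟩ := OddLocal.exists_mem_center_ne_one_of_normal (hPq.to_quotient A) _ hne
  have hbA : b ∉ A := fun h => hb1 ((QuotientGroup.eq_one_iff b).mpr h)
  have hcomm2 : ∀ x ∈ insert b (A : Set (P ⧸ L)), ∀ y ∈ insert b (A : Set (P ⧸ L)), x * y = y * x := by
    intro x hx y hy
    rcases Set.mem_insert_iff.mp hx with hxb | hxA <;> rcases Set.mem_insert_iff.mp hy with hyb | hyA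
    · rw [hxb, hyb]
    · rw [hxb]; exact hcent _ hb _ hyA
    · rw [hyb]; exact (hcent _ hb _ hxA).symm
    · exact hAc _ hxA _ hyA
  let B := Subgroup.closure (insert b (A : Set (P ⧸ L)))
  have hAB : A ≤ B := fun a ha => Subgroup.subset_closure (Set.mem_insert_of_mem _ ha)
  have hbB : b ∈ B := Subgroup.subset_closure (Set.mem_insert _ _)
  have hBn : B.Normal := by
    refine ⟨fun x hx g => ?_⟩
    have key : B ≤ B.comap (MulAut.conj g).toMonoidHom := by
      refine (Subgroup.closure_le _).mpr ?_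
      intro y hy
      show g * y * g⁻¹ ∈ B
      rcases Set.mem_insert_iff.mp hy with rfl | hy
      · have h1 : (g * y * g⁻¹) * y⁻¹ ∈ A := by
          refine (QuotientGroup.eq_one_iff _).mp ?_
          show σ (g * y * g⁻¹ * y⁻¹) = 1
          rw [map_mul, map_mul, map_mul, map_inv, map_inv, Subgroup.mem_center_iff.mp hbc (σ g),
            mul_inv_cancel_right, mul_inv_cancel]
        have := mul_mem (hAB h1) hbB
        rwa [inv_mul_cancel_right] at this
      · exact hAB (hAn.conj_mem y hy g)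
    exact key hx
  refine hbA (hAmax ⟨hBn, (Subgroup.closure_le _).mpr (Set.insert_subset hb hAK), ?_⟩ hAB hbB)
  intro x hx y hy
  exact Subgroup.closure_induction₂ (p := fun x y _ _ => Commute x y) (fun x y hx hy => hcomm2 x hx y hy)
    (fun x _ => Commute.one_left x) (fun x _ => Commute.one_right x)
    (fun x y z _ _ _ h1 h2 => h1.mul_left h2) (fun x y z _ _ _ h1 h2 => h1.mul_right h2)
    (fun x y _ _ h1 => h1.inv_left) (fun x y _ _ h1 => h1.inv_right) hx hy

theorem Kser_surj (hP : IsPGroup p P) (hp2 : p ≠ 2) (α : MulAut P) (hα : α ^ p = 1) {n : ℕ}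
    (hfix : Nat.card {g : P // α g = g} ≤ p ^ n) {K : Subgroup P} (hK : K = kerCore P (p ^ (n * p))) :
    ∀ (i : ℕ), ∀ z ∈ Kser p K (i + 1), ∃ x ∈ Kser p K i, (x ^ p)⁻¹ * z ∈ Kser p K (i + 2) := by
  have hKi : ∀ θ : MulAut P, ∀ x ∈ K, θ x ∈ K := hK ▸ kerCore_invariant _
  let S := kSer (p := p) hKi
  intro i
  induction i with
  | zero =>
    exact (fun z hz => by
        have h1 : ∀ w ∈ Subgroup.closure ((fun x => x ^ p) '' (K : Set P)),
            ∃ x ∈ Kser p K 0, (x ^ p)⁻¹ * w ∈ Kser p K 2 := by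
          intro w hw
          induction hw using Subgroup.closure_induction with
          | mem w hw => obtain ⟨a, ha, rfl⟩ := hw; exact ⟨a, ha, by simp⟩
          | one => exact ⟨1, one_mem _, by simp⟩
          | mul a b _ _ ha hb =>
            obtain ⟨x, hx, hx'⟩ := ha
            obtain ⟨y, hy, hy'⟩ := hb
            exact ⟨x * y, mul_mem hx hy, S.eqv_trans (S.pow_mul_eqv hp2 (i := 0) hx hy (by omega))
              (S.eqv_mul (t := 2) hx' hy')⟩
          | inv a _ ha =>
            obtain ⟨x, hx, hx'⟩ := ha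
            exact ⟨x⁻¹, inv_mem hx, by rw [inv_pow]; exact S.eqv_inv (t := 2) hx'⟩
        haveI := Kser_normal (p := p) hKi 2
        obtain ⟨a, ha, b, hb, rfl⟩ := Subgroup.mem_sup_of_normal_right.mp (powerful hP α hα hfix hK hz)
        obtain ⟨x, hx, hx'⟩ := h1 a ha
        exact ⟨x, hx, by rw [← mul_assoc]; exact mul_mem hx' hb⟩)
  | succ i ih =>
    exact (fun z hz => by
        let Sv : Subgroup P :=
          { carrier := {w | ∃ x ∈ Kser p K (i + 1), S.Eqv (i + 3) (x ^ p) w}
            one_mem' := ⟨1, one_mem _, S.eqv_of_eq (one_pow p)⟩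
            mul_mem' := by
              rintro a b ⟨x, hx, hx'⟩ ⟨y, hy, hy'⟩
              exact ⟨x * y, mul_mem hx hy, S.eqv_trans (S.pow_mul_eqv hp2 (i := i + 1) hx hy (by omega))
                (S.eqv_mul hx' hy')⟩
            inv_mem' := by
              rintro a ⟨x, hx, hx'⟩
              exact ⟨x⁻¹, inv_mem hx, by rw [inv_pow]; exact S.eqv_inv hx'⟩ }
        suffices Kser p K (i + 1 + 1) ≤ Sv from this hz
        refine sup_le (Subgroup.commutator_le.mpr fun a ha y hy => ?_) ((Subgroup.closure_le _).mpr ?_)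
        · obtain ⟨x, hx, hx'⟩ := ih a ha
          refine ⟨⁅x, y⁆, S.comm (i := i) (j := 0) hx hy, ?_⟩
          exact S.eqv_symm (S.eqv_trans
            (S.eqv_comm_left (t := i + 2) (j := 0) (S.eqv_symm hx') hy (by omega))
            (S.eqv_trans (S.comm_pow hp2 (i := i) (j := 0) hx hy (by omega)) (S.eqv_refl _ _)))
        · rintro _ ⟨a, ha, rfl⟩
          exact ⟨a, ha, S.eqv_refl _ _⟩)

/-- The bound for `p`-groups, `p` odd. -/
theorem odd_bound (hP : IsPGroup p P) (hp2 : p ≠ 2) (α : MulAut P) (hα : α ^ p = 1) {n : ℕ}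
    (hfix : Nat.card {g : P // α g = g} ≤ p ^ n) :
    derivedSeries P (Nat.card (Equiv.Perm (Fin (p ^ (n * p)))) + segBound p n * p ^ (n * p)) = ⊥ := by
  haveI := hP.isNilpotent
  set K := kerCore P (p ^ (n * p)) with hK
  have hKi : ∀ θ : MulAut P, ∀ x ∈ K, θ x ∈ K := kerCore_invariant _
  let S := kSer (p := p) hKi
  have hnormal : ∀ i, (Kser p K i).Normal := Kser_normal hKi
  let rk : ℕ → ℕ := fun i => (Kser p K (i + 1)).relIndex (Kser p K i)
  have hrk : ∀ i, ∀ [(Kser p K (i + 1)).Normal],
      rk i = Nat.card ((Kser p K i).map (QuotientGroup.mk' (Kser p K (i + 1)))) := by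
    intro i _
    rw [← Subgroup.relIndex_ker, QuotientGroup.ker_mk']
  have hsur := Kser_surj hP hp2 α hα hfix hK
  -- the power map between consecutive sections
  have hmap : ∀ i, rk (i + 1) ≤ rk i ∧ (rk i ≤ rk (i + 1) → ∀ x ∈ Kser p K i, x ^ p ∈ Kser p K (i + 2) →
      x ∈ Kser p K (i + 1)) := by
    intro i
    haveI := hnormal (i + 1)
    haveI : (Kser p K (i + 2)).Normal := hnormal (i + 2)
    have hr1 := hrk i
    have hr2 := hrk (i + 1)
    set A := (Kser p K i).map (QuotientGroup.mk' (Kser p K (i + 1)))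
    set B := (Kser p K (i + 1)).map (QuotientGroup.mk' (Kser p K (i + 2)))
    have hA : ∀ a : A, ∃ x ∈ Kser p K i, QuotientGroup.mk' (Kser p K (i + 1)) x = (a : P ⧸ Kser p K (i + 1)) :=
      fun a => a.2
    choose x hx hxa using hA
    let f : A → B := fun a => ⟨QuotientGroup.mk' _ (x a ^ p), Subgroup.mem_map_of_mem _ (Kser_pow hKi (hx a))⟩
    have hfeq : ∀ (a : A) (y : P), y ∈ Kser p K i → QuotientGroup.mk' (Kser p K (i + 1)) y = (a : P ⧸ Kser p K (i + 1)) →
        (f a : P ⧸ Kser p K (i + 2)) = QuotientGroup.mk' (Kser p K (i + 2)) (y ^ p) := fun a y hy h =>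
      QuotientGroup.eq.mpr (S.pow_congr hp2 (i := i) (t := i + 1) (hx a) (by omega)
        (QuotientGroup.eq.mp ((hxa a).trans h.symm)) (by omega) (by omega))
    have hf : Function.Surjective f := by
      rintro ⟨_, z, hz, rfl⟩
      obtain ⟨y, hy, hyz⟩ := hsur i z hz
      refine ⟨⟨_, Subgroup.mem_map_of_mem _ hy⟩, Subtype.ext ?_⟩
      exact (hfeq _ y hy rfl).trans (QuotientGroup.eq.mpr hyz)
    refine ⟨by rw [hr1, hr2]; exact Nat.card_le_card_of_surjective f hf, fun hle y hy hyp => ?_⟩
    rw [hr1, hr2] at hle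
    have hbij : Function.Bijective f :=
      Function.Surjective.bijective_of_nat_card_le hf hle
    have e : f ⟨_, Subgroup.mem_map_of_mem _ hy⟩ = f 1 := Subtype.ext (by
      rw [hfeq _ y hy rfl, hfeq 1 1 (one_mem _) (map_one _), one_pow, map_one]
      exact (QuotientGroup.eq_one_iff _).mpr hyp)
    exact (QuotientGroup.eq_one_iff y).mp (congrArg Subtype.val (hbij.1 e))
  have hanti : ∀ a k, rk (a + k) ≤ rk a := by
    intro a k
    induction k with
    | zero => exact le_rfl
    | succ k ih => exact ((hmap (a + k)).1).trans ih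
  obtain ⟨T, hT⟩ := Kser_exists_bot hKi hP
  have main : ∀ r a, rk a ≤ r → dS (Kser p K a) (segBound p n * r) = ⊥ := by
    intro r
    induction r using Nat.strong_induction_on with
    | _ r ih =>
      intro a har
      by_cases h0 : Kser p K a = ⊥
      · exact le_bot_iff.mp ((dS_le_self _ _).trans h0.le)
      have hpos : ∀ i, 0 < rk i := fun i => by
        haveI := hnormal (i + 1)
        rw [hrk i]; exact Nat.card_pos
      have ha2 : 1 < rk a := by
        by_contra h
        refine h0 (Kser_eq_bot hKi hP (Subgroup.relIndex_eq_one.mp ?_))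
        have := hpos a
        show rk a = 1
        omega
      have hex : ∃ k, rk (a + k) < rk a := by
        refine ⟨T, ?_⟩
        have : rk (a + T) = 1 := by
          refine Subgroup.relIndex_eq_one.mpr ?_
          rw [le_bot_iff.mp ((Kser_anti hKi (Nat.le_add_left T a)).trans hT.le)]
          exact bot_le
        omega
      classical
      let e := Nat.find hex
      have he1 : rk (a + e) < rk a := Nat.find_spec hex
      let Sg : Seg p P :=
        { Q := fun i => Kser p K (a + i)
          normal := fun i => hnormal _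
          succ_le := fun i => Kser_succ_le hKi _
          comm := fun {i j x y} hx hy => Kser_anti hKi (show a + (i + j + 1) ≤ a + i + (a + j) + 1 by omega)
            (S.comm hx hy)
          pow_mem := fun {i x} hx => Kser_pow hKi hx
          e := e
          surj := fun {i z} _ hz => hsur (a + i) z hz
          inj := fun {i x} hi hx hxp => by
            refine (hmap (a + i)).2 ?_ x hx hxp
            have h1 : rk a ≤ rk (a + (i + 1)) := not_lt.mp (Nat.find_min hex (show i + 1 < e by omega))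
            exact (hanti a i).trans h1 }
      have hstep := Sg.bound hp2 n α hα (fun i x hx => Kser_invariant hKi _ α x hx) (fun i j x _ _ hE => by
        haveI : (Kser p K (a + j)).Normal := hnormal _
        exact pow_fixed_mem hP α hfix (Kser p K (a + j)) (map_eq_of_invariant _ (Kser_invariant hKi _) α) x hE)
      have hr : 1 ≤ r := (hpos a).trans_le har
      have e1 : segBound p n * r = segBound p n + segBound p n * (r - 1) := by
        rw [add_comm, ← Nat.mul_succ, Nat.succ_eq_add_one, Nat.sub_add_cancel hr]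
      rw [e1, dS_add]
      refine le_bot_iff.mp ((dS_mono hstep _).trans (le_of_eq ?_))
      exact ih (r - 1) (by omega) (a + e) (by omega)
  have h1 : derivedSeries P (Nat.card (Equiv.Perm (Fin (p ^ (n * p))))) ≤ K :=
    le_iInf fun φ => derived_le_ker φ
  rw [← dS_top, dS_add, dS_top]
  refine le_bot_iff.mp ((dS_mono h1 _).trans (main (p ^ (n * p)) 0 ?_).le)
  exact card_Kser_section_le hKi α hα hfix 0

end Cfsg.Agent.Alperin23
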