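import Cfsg.Agent.Lib.Alperin23.Series
import Cfsg.Agent.Lib.Alperin23.Kreknin

/-!
# The Lie ring on one level of a segment
-/

set_option autoImplicit false
set_option linter.style.haveILetI false

namespace Cfsg.Agent.Alperin23

open scoped commutatorElement

universe u

variable {p : ℕ} {G : Type u} [Group G]

namespace Seg

variable (S : Seg p G) (h : ℕ)

/-- The section `Q h / Q (2 * h)`. -/
def LQ : Type u := ↥(S.Q h) ⧸ (S.Q (2 * h)).subgroupOf (S.Q h)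

instance lqNormal : ((S.Q (2 * h)).subgroupOf (S.Q h)).Normal := by
  haveI := S.normal (2 * h)
  infer_instance

instance LQ.group : Group (S.LQ h) :=
  inferInstanceAs (Group (↥(S.Q h) ⧸ (S.Q (2 * h)).subgroupOf (S.Q h)))

/-- The quotient map. -/
def qh : ↥(S.Q h) →* S.LQ h := QuotientGroup.mk' _

theorem qh_surjective : Function.Surjective (S.qh h) := QuotientGroup.mk'_surjective _

theorem qh_eq {x y : ↥(S.Q h)} : S.qh h x = S.qh h y ↔ S.Eqv (2 * h) (x : G) y :=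
  (QuotientGroup.eq (s := (S.Q (2 * h)).subgroupOf (S.Q h))).trans Subgroup.mem_subgroupOf

instance LQ.commGroup : CommGroup (S.LQ h) :=
  { LQ.group S h with
    mul_comm := fun a b => by
      obtain ⟨x, rfl⟩ := S.qh_surjective h a
      obtain ⟨y, rfl⟩ := S.qh_surjective h b
      rw [← map_mul, ← map_mul, qh_eq]
      have h1 := S.toSer.mem_of_le (show 2 * h ≤ h + h + 1 by omega) (S.comm (inv_mem y.2) (inv_mem x.2))
      rw [commutatorElement_def, inv_inv, inv_inv] at h1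
      simpa [Ser.Eqv, mul_assoc] using h1 }

/-- The underlying additive group of the Lie ring. -/
abbrev LL : Type u := Additive (S.LQ h)

open scoped Classical in
/-- The class of an element of `Q h`. -/
noncomputable def cl (x : G) : S.LL h :=
  if hx : x ∈ S.Q h then Additive.ofMul (S.qh h ⟨x, hx⟩) else 0

theorem cl_of_mem {x : G} (hx : x ∈ S.Q h) : S.cl h x = Additive.ofMul (S.qh h ⟨x, hx⟩) := dif_pos hx

theorem cl_mul {x y : G} (hx : x ∈ S.Q h) (hy : y ∈ S.Q h) : S.cl h (x * y) = S.cl h x + S.cl h y := by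
  rw [S.cl_of_mem h (mul_mem hx hy), S.cl_of_mem h hx, S.cl_of_mem h hy, ← ofMul_mul, ← map_mul]
  rfl

theorem cl_eq {x y : G} (hx : x ∈ S.Q h) (hy : y ∈ S.Q h) : S.cl h x = S.cl h y ↔ S.Eqv (2 * h) x y := by
  rw [S.cl_of_mem h hx, S.cl_of_mem h hy, Equiv.apply_eq_iff_eq, qh_eq]

theorem cl_one : S.cl h (1 : G) = 0 := by
  rw [S.cl_of_mem h (one_mem _), show (⟨1, one_mem _⟩ : ↥(S.Q h)) = 1 from rfl, map_one, ofMul_one]

theorem cl_eq_zero {x : G} (hx : x ∈ S.Q h) : S.cl h x = 0 ↔ x ∈ S.Q (2 * h) := by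
  rw [← S.cl_one h, S.cl_eq h hx (one_mem _)]
  show x⁻¹ * 1 ∈ S.Q (2 * h) ↔ _
  rw [mul_one, inv_mem_iff]

theorem cl_inv {x : G} (hx : x ∈ S.Q h) : S.cl h x⁻¹ = - S.cl h x := by
  rw [eq_neg_iff_add_eq_zero, ← S.cl_mul h (inv_mem hx) hx, inv_mul_cancel, S.cl_one]

theorem cl_pow {x : G} (hx : x ∈ S.Q h) : ∀ n : ℕ, S.cl h (x ^ n) = n • S.cl h x := by
  intro n
  induction n with
  | zero => simp [S.cl_one h]
  | succ n ih => rw [pow_succ, S.cl_mul h (pow_mem hx n) hx, ih, succ_nsmul]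

/-- A representative. -/
noncomputable def rep (a : S.LL h) : G :=
  ((Classical.choose (S.qh_surjective h (Additive.toMul a)) : ↥(S.Q h)) : G)

theorem rep_mem (a : S.LL h) : S.rep h a ∈ S.Q h :=
  (Classical.choose (S.qh_surjective h (Additive.toMul a))).2

theorem cl_rep (a : S.LL h) : S.cl h (S.rep h a) = a := by
  rw [S.cl_of_mem h (S.rep_mem h a)]
  exact congrArg Additive.ofMul (Classical.choose_spec (S.qh_surjective h (Additive.toMul a)))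

theorem exists_cl (a : S.LL h) : ∃ x ∈ S.Q h, S.cl h x = a := ⟨_, S.rep_mem h a, S.cl_rep h a⟩

variable [hp : Fact p.Prime] (hp2 : p ≠ 2) (hh : 4 * h + 2 ≤ S.e)
include hp2 hh

theorem exists_br {x y : G} (hx : x ∈ S.Q h) (hy : y ∈ S.Q h) :
    ∃ z ∈ S.Q h, S.Eqv (3 * h) (z ^ p ^ h) ⁅x, y⁆ := by
  obtain ⟨z, hz, h1⟩ := S.root hp2 (i := h) (k := h) h (S.toSer.mem_of_le (by omega) (S.comm hx hy))
    (by omega) (by omega)
  exact ⟨z, hz, S.toSer.eqv_mono (by omega) h1⟩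

/-- The bracket. -/
noncomputable def br (a b : S.LL h) : S.LL h :=
  S.cl h (Classical.choose (S.exists_br h hp2 hh (S.rep_mem h a) (S.rep_mem h b)))

theorem br_cl {x y z : G} (hx : x ∈ S.Q h) (hy : y ∈ S.Q h) (hz : z ∈ S.Q h)
    (h1 : S.Eqv (3 * h) (z ^ p ^ h) ⁅x, y⁆) : S.br h hp2 hh (S.cl h x) (S.cl h y) = S.cl h z := by
  obtain ⟨hw, h2⟩ := Classical.choose_spec
    (S.exists_br h hp2 hh (S.rep_mem h (S.cl h x)) (S.rep_mem h (S.cl h y)))
  refine (S.cl_eq h hw hz).mpr ?_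
  have hxr := (S.cl_eq h (S.rep_mem h _) hx).mp (S.cl_rep h (S.cl h x))
  have hyr := (S.cl_eq h (S.rep_mem h _) hy).mp (S.cl_rep h (S.cl h y))
  have h3 : S.Eqv (3 * h) ⁅S.rep h (S.cl h x), S.rep h (S.cl h y)⁆ ⁅x, y⁆ :=
    S.toSer.eqv_trans (S.toSer.eqv_comm_left hxr (S.rep_mem h _) (by omega))
      (S.toSer.eqv_comm_right hyr hx (by omega))
  have h4 := S.cancel hp2 (i := h) (k := h) (m := h) hw hz
    (S.toSer.eqv_mono (by omega) (S.toSer.eqv_trans h2 (S.toSer.eqv_trans h3 (S.toSer.eqv_symm h1))))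
    (by omega) (by omega)
  exact S.toSer.eqv_mono (by omega) h4

theorem br_add_left (a a' b : S.LL h) : S.br h hp2 hh (a + a') b = S.br h hp2 hh a b + S.br h hp2 hh a' b := by
  obtain ⟨x, hx, rfl⟩ := S.exists_cl h a
  obtain ⟨x', hx', rfl⟩ := S.exists_cl h a'
  obtain ⟨y, hy, rfl⟩ := S.exists_cl h b
  obtain ⟨z, hz, h1⟩ := S.exists_br h hp2 hh hx hy
  obtain ⟨z', hz', h2⟩ := S.exists_br h hp2 hh hx' hy
  rw [← S.cl_mul h hx hx', S.br_cl h hp2 hh hx hy hz h1, S.br_cl h hp2 hh hx' hy hz' h2, add_comm (S.cl h z),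
    ← S.cl_mul h hz' hz]
  refine S.br_cl h hp2 hh (mul_mem hx hx') hy (mul_mem hz' hz) ?_
  refine S.toSer.eqv_trans (S.toSer.pow_mul_iter hp2 hz' hz h (by omega)) (S.toSer.eqv_trans (S.toSer.eqv_mul h2 h1) ?_)
  have e : ⁅x * x', y⁆ = ⁅x, ⁅x', y⁆⁆ * ⁅x', y⁆ * ⁅x, y⁆ := by
    simp only [commutatorElement_def]; group
  rw [e]
  have h3 := S.toSer.eqv_mul (S.toSer.eqv_mul (S.toSer.eqv_one (S.toSer.mem_of_le
    (show 3 * h ≤ h + (h + h + 1) + 1 by omega) (S.comm hx (S.comm hx' hy))))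
    (S.toSer.eqv_refl (3 * h) ⁅x', y⁆)) (S.toSer.eqv_refl (3 * h) ⁅x, y⁆)
  rw [one_mul] at h3
  exact S.toSer.eqv_symm h3

theorem br_skew (a b : S.LL h) : S.br h hp2 hh b a = - S.br h hp2 hh a b := by
  obtain ⟨x, hx, rfl⟩ := S.exists_cl h a
  obtain ⟨y, hy, rfl⟩ := S.exists_cl h b
  obtain ⟨z, hz, h1⟩ := S.exists_br h hp2 hh hx hy
  rw [S.br_cl h hp2 hh hx hy hz h1, ← S.cl_inv h hz]
  refine S.br_cl h hp2 hh hy hx (inv_mem hz) ?_
  rw [inv_pow, ← commutatorElement_inv x y]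
  exact S.toSer.eqv_inv h1

theorem br_self (a : S.LL h) : S.br h hp2 hh a a = 0 := by
  obtain ⟨x, hx, rfl⟩ := S.exists_cl h a
  rw [← S.cl_one h]
  refine S.br_cl h hp2 hh hx hx (one_mem _) ?_
  rw [one_pow, commutatorElement_self]
  exact S.toSer.eqv_refl _ _

theorem br_add_right (a b b' : S.LL h) : S.br h hp2 hh a (b + b') = S.br h hp2 hh a b + S.br h hp2 hh a b' := by
  rw [S.br_skew h hp2 hh (b + b') a, S.br_add_left, S.br_skew h hp2 hh b a, S.br_skew h hp2 hh b' a]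
  abel

theorem br_neg_left (a b : S.LL h) : S.br h hp2 hh (-a) b = - S.br h hp2 hh a b := by
  have h0 : S.br h hp2 hh 0 b = 0 := by
    have := S.br_add_left h hp2 hh 0 0 b
    rwa [add_zero, left_eq_add] at this
  rw [eq_neg_iff_add_eq_zero, ← S.br_add_left, neg_add_cancel, h0]

theorem br_br_cl {x y z : G} (hx : x ∈ S.Q h) (hy : y ∈ S.Q h) (hz : z ∈ S.Q h) :
    ∃ t ∈ S.Q h, S.br h hp2 hh (S.br h hp2 hh (S.cl h x) (S.cl h y)) (S.cl h z) = S.cl h t ∧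
      S.Eqv (4 * h) ⁅⁅x, y⁆, z⁆ (t ^ p ^ (h + h)) := by
  obtain ⟨u, hu, h1⟩ := S.exists_br h hp2 hh hx hy
  obtain ⟨t, ht, h2⟩ := S.exists_br h hp2 hh hu hz
  refine ⟨t, ht, by rw [S.br_cl h hp2 hh hx hy hu h1, S.br_cl h hp2 hh hu hz ht h2], ?_⟩
  refine S.toSer.eqv_trans (S.toSer.eqv_comm_left (S.toSer.eqv_symm h1) hz (by omega)) ?_
  refine S.toSer.eqv_trans (S.toSer.comm_pow_iter hp2 hu hz h (by omega)) ?_
  rw [pow_add, pow_mul]
  exact S.toSer.pow_congr_iter hp2 (i := 2 * h) (S.toSer.mem_of_le (by omega) (S.comm hu hz)) h (by omega)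
    (S.toSer.eqv_symm h2) (by omega) (by omega)

theorem br_cyclic (a b c : S.LL h) : S.br h hp2 hh (S.br h hp2 hh a b) c + S.br h hp2 hh (S.br h hp2 hh b c) a +
    S.br h hp2 hh (S.br h hp2 hh c a) b = 0 := by
  obtain ⟨x, hx, rfl⟩ := S.exists_cl h a
  obtain ⟨y, hy, rfl⟩ := S.exists_cl h b
  obtain ⟨z, hz, rfl⟩ := S.exists_cl h c
  have conj : ∀ {u v : G}, u ∈ S.Q h → v ∈ S.Q h → S.Eqv (2 * h) (u * v * u⁻¹) v := by
    intro u v hu hv
    have h1 := S.toSer.eqv_mul (S.toSer.eqv_one (S.toSer.mem_of_le (show 2 * h ≤ h + h + 1 by omega)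
      (S.comm hu hv))) (S.toSer.eqv_refl (2 * h) v)
    rwa [one_mul, commutatorElement_def, inv_mul_cancel_right] at h1
  obtain ⟨t₁, ht₁, e₁, q₁⟩ := S.br_br_cl h hp2 hh hx hy hz
  obtain ⟨t₂, ht₂, e₂, q₂⟩ := S.br_br_cl h hp2 hh hy hz hx
  obtain ⟨t₃, ht₃, e₃, q₃⟩ := S.br_br_cl h hp2 hh hz hx hy
  rw [e₁, e₂, e₃, ← S.cl_mul h ht₁ ht₂, ← S.cl_mul h (mul_mem ht₁ ht₂) ht₃,
    S.cl_eq_zero h (mul_mem (mul_mem ht₁ ht₂) ht₃)]
  have m₁ := S.toSer.eqv_trans (S.toSer.eqv_comm_right (s := 4 * h) (conj hy hz) (S.comm hx hy) (by omega)) q₁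
  have m₂ := S.toSer.eqv_trans (S.toSer.eqv_comm_right (s := 4 * h) (conj hz hx) (S.comm hy hz) (by omega)) q₂
  have m₃ := S.toSer.eqv_trans (S.toSer.eqv_comm_right (s := 4 * h) (conj hx hy) (S.comm hz hx) (by omega)) q₃
  have hW : ⁅⁅x, y⁆, y * z * y⁻¹⁆ * ⁅⁅y, z⁆, z * x * z⁻¹⁆ * ⁅⁅z, x⁆, x * y * x⁻¹⁆ = 1 := by
    simp only [commutatorElement_def]; group
  have h5 := S.toSer.eqv_mul (S.toSer.eqv_mul m₁ m₂) m₃
  rw [hW] at h5
  have h6 := S.toSer.eqv_trans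
    (S.toSer.eqv_mul (S.toSer.pow_mul_iter hp2 ht₁ ht₂ (h + h) (s := 4 * h) (by omega))
      (S.toSer.eqv_refl (4 * h) (t₃ ^ p ^ (h + h))))
    (S.toSer.eqv_symm h5)
  have h7 := S.toSer.eqv_trans (S.toSer.pow_mul_iter hp2 (mul_mem ht₁ ht₂) ht₃ (h + h) (s := 4 * h) (by omega)) h6
  rw [show 2 * h = h + h by omega]
  exact S.inj_iter (k := h + h) h (mul_mem (mul_mem ht₁ ht₂) ht₃)
    (S.toSer.mem_of_le (by omega) (S.toSer.mem_of_eqv h7 (one_mem _))) (by omega)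

/-- The Lie ring structure. -/
@[reducible] noncomputable def lieRing : LieRing (S.LL h) :=
  { (inferInstance : AddCommGroup (S.LL h)) with
    bracket := S.br h hp2 hh
    add_lie := S.br_add_left h hp2 hh
    lie_add := S.br_add_right h hp2 hh
    lie_self := S.br_self h hp2 hh
    leibniz_lie := fun a b c => by
      show S.br h hp2 hh a (S.br h hp2 hh b c) =
        S.br h hp2 hh (S.br h hp2 hh a b) c + S.br h hp2 hh b (S.br h hp2 hh a c)
      have hJ := S.br_cyclic h hp2 hh a b c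
      rw [S.br_skew h hp2 hh (S.br h hp2 hh b c) a, S.br_skew h hp2 hh (S.br h hp2 hh a c) b,
        S.br_skew h hp2 hh c a, S.br_neg_left, neg_neg]
      rw [eq_comm, ← sub_eq_zero, sub_neg_eq_add]
      rw [← hJ]
      abel }

omit hp hp2 hh in
/-- The additive map induced by an automorphism. -/
noncomputable def lmap (α : MulAut G) (hα : ∀ i, ∀ x ∈ S.Q i, α x ∈ S.Q i) : S.LL h →+ S.LL h :=
  AddMonoidHom.mk' (fun a => S.cl h (α (S.rep h a))) fun a b => by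
    rw [← S.cl_mul h (hα _ _ (S.rep_mem h a)) (hα _ _ (S.rep_mem h b)), ← map_mul]
    refine (S.cl_eq h (hα _ _ (S.rep_mem h _)) (hα _ _ (mul_mem (S.rep_mem h a) (S.rep_mem h b)))).mpr ?_
    have := hα _ _ ((S.cl_eq h (S.rep_mem h (a + b)) (mul_mem (S.rep_mem h a) (S.rep_mem h b))).mp
      (by rw [S.cl_rep, S.cl_mul h (S.rep_mem h a) (S.rep_mem h b), S.cl_rep, S.cl_rep]))
    rwa [map_mul, map_inv] at this

omit hp hp2 hh in
theorem lmap_cl (α : MulAut G) (hα : ∀ i, ∀ x ∈ S.Q i, α x ∈ S.Q i) {x : G} (hx : x ∈ S.Q h) :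
    S.lmap h α hα (S.cl h x) = S.cl h (α x) := by
  refine (S.cl_eq h (hα _ _ (S.rep_mem h _)) (hα _ _ hx)).mpr ?_
  have := hα _ _ ((S.cl_eq h (S.rep_mem h _) hx).mp (S.cl_rep h (S.cl h x)))
  rwa [map_mul, map_inv] at this

theorem lmap_br (α : MulAut G) (hα : ∀ i, ∀ x ∈ S.Q i, α x ∈ S.Q i) (a b : S.LL h) :
    S.lmap h α hα (S.br h hp2 hh a b) = S.br h hp2 hh (S.lmap h α hα a) (S.lmap h α hα b) := by
  obtain ⟨x, hx, rfl⟩ := S.exists_cl h a
  obtain ⟨y, hy, rfl⟩ := S.exists_cl h b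
  obtain ⟨z, hz, h1⟩ := S.exists_br h hp2 hh hx hy
  rw [S.br_cl h hp2 hh hx hy hz h1, S.lmap_cl h α hα hz, S.lmap_cl h α hα hx, S.lmap_cl h α hα hy]
  refine (S.br_cl h hp2 hh (hα _ _ hx) (hα _ _ hy) (hα _ _ hz) ?_).symm
  have := hα _ _ h1
  rwa [map_mul, map_inv, map_pow, map_commutatorElement] at this

omit hp hp2 hh in
theorem lmap_periodic (α : MulAut G) (hα : ∀ i, ∀ x ∈ S.Q i, α x ∈ S.Q i) {q : ℕ} (hq : α ^ q = 1)
    (a : S.LL h) : (S.lmap h α hα)^[q] a = a := by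
  obtain ⟨x, hx, rfl⟩ := S.exists_cl h a
  have key : ∀ k, (α ^ k) x ∈ S.Q h ∧ (S.lmap h α hα)^[k] (S.cl h x) = S.cl h ((α ^ k) x) := by
    intro k
    induction k with
    | zero => exact ⟨hx, rfl⟩
    | succ k ih =>
      rw [Function.iterate_succ_apply', ih.2, S.lmap_cl h α hα ih.1, pow_succ', MulAut.mul_apply]
      exact ⟨hα _ _ ih.1, rfl⟩
  rw [(key q).2, hq]
  rfl

end Seg

end Cfsg.Agent.Alperin23
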