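import Cfsg.Agent.Lib.Alperin23.SegLie
import Cfsg.Agent.Lib.Alperin23.Basics

/-!
# Roots of Lie subrings of one level are subgroups of the segment
-/

set_option autoImplicit false
set_option linter.style.haveILetI false
set_option maxHeartbeats 1000000

namespace Cfsg.Agent.Alperin23

open scoped commutatorElement

universe u

variable {p : ℕ} {G : Type u} [Group G]

theorem conj_inv_mem [Finite G] {N : Subgroup G} {c : G} (hc : ∀ n ∈ N, c * n * c⁻¹ ∈ N) :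
    ∀ n ∈ N, c⁻¹ * n * c ∈ N := by
  have key : ∀ k : ℕ, ∀ n ∈ N, c ^ k * n * (c ^ k)⁻¹ ∈ N := by
    intro k
    induction k with
    | zero => intro n hn; simpa using hn
    | succ k ih =>
      intro n hn
      have := hc _ (ih n hn)
      simpa [pow_succ', mul_assoc] using this
  intro n hn
  have e : c ^ (orderOf c - 1) = c⁻¹ := by
    refine eq_inv_of_mul_eq_one_left ?_
    rw [← pow_succ, Nat.sub_add_cancel (orderOf_pos c), pow_orderOf_eq_one]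
  have := key (orderOf c - 1) n hn
  rwa [e, inv_inv] at this

theorem mul_pow_mem [Finite G] {N : Subgroup G} {x y : G} (hx : ∀ n ∈ N, x * n * x⁻¹ ∈ N)
    (hy : ∀ n ∈ N, y * n * y⁻¹ ∈ N) (hxy : ⁅x, y⁆ ∈ N) : ∀ t : ℕ, (x ^ t * y ^ t)⁻¹ * (x * y) ^ t ∈ N := by
  have hx' := conj_inv_mem hx
  have hy' := conj_inv_mem hy
  have hsw : ∀ t : ℕ, ∃ n ∈ N, y ^ t * x = x * y ^ t * n := by
    intro t
    induction t with
    | zero => exact ⟨1, one_mem _, by simp⟩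
    | succ t ih =>
      obtain ⟨n, hn, e⟩ := ih
      refine ⟨y⁻¹ * (y ^ t)⁻¹ * (x⁻¹ * y * x * y⁻¹) * y ^ t * y * n, ?_, ?_⟩
      · refine mul_mem ?_ hn
        have h0 : x⁻¹ * y * x * y⁻¹ ∈ N := by
          have := hx' _ (inv_mem hxy)
          simpa [commutatorElement_def, mul_assoc] using this
        have h1 : ∀ k : ℕ, ∀ z ∈ N, (y ^ k)⁻¹ * z * y ^ k ∈ N := by
          intro k
          induction k with
          | zero => intro z hz; simpa using hz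
          | succ k ihk =>
            intro z hz
            have := hy' _ (ihk z hz)
            simpa [pow_succ, mul_assoc] using this
        have := hy' _ (h1 t _ h0)
        simpa [mul_assoc] using this
      · rw [pow_succ', mul_assoc, e]
        group
  intro t
  induction t with
  | zero => simp
  | succ t ih =>
    obtain ⟨n, hn, e⟩ := hsw t
    have e2 : (x ^ (t + 1) * y ^ (t + 1))⁻¹ * (x * y) ^ (t + 1) =
        y⁻¹ * (n * (x⁻¹ * ((x ^ t * y ^ t)⁻¹ * (x * y) ^ t) * x)) * y := by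
      have e' : x * y ^ t = y ^ t * x * n⁻¹ := by rw [e, mul_inv_cancel_right]
      rw [pow_succ (x * y), pow_succ x, pow_succ y, show x ^ t * x * (y ^ t * y) = x ^ t * (x * y ^ t) * y by group,
        e']
      group
    rw [e2]
    exact hy' _ (mul_mem hn (hx' _ ih))

namespace Seg

variable (S : Seg p G) (h : ℕ)

/-- Elements of level `l` whose root lies in `M`, to precision `m`. -/
def WM (M : AddSubgroup (S.LL h)) (m l : ℕ) : Set G :=
  {x | x ∈ S.Q l ∧ ∃ u ∈ S.Q h, S.cl h u ∈ M ∧ S.Eqv (l + h + m) (x ^ p ^ h) (u ^ p ^ l)}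

theorem WM_le {M : AddSubgroup (S.LL h)} {m l : ℕ} {x : G} (hx : x ∈ S.WM h M m l) : x ∈ S.Q l := hx.1

theorem WM_mono_set {M M' : AddSubgroup (S.LL h)} (hM : M ≤ M') {m l : ℕ} {x : G} (hx : x ∈ S.WM h M m l) :
    x ∈ S.WM h M' m l := by
  obtain ⟨h1, u, hu, h2, h3⟩ := hx
  exact ⟨h1, u, hu, hM h2, h3⟩

theorem WM_mono {M : AddSubgroup (S.LL h)} {m m' l l' : ℕ} (hl : l' ≤ l) (hm : l' + m' ≤ l + m) {x : G}
    (hx : x ∈ S.WM h M m l) : x ∈ S.WM h M m' l' := by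
  obtain ⟨h1, u, hu, h2, h3⟩ := hx
  have hu' : u ^ p ^ (l - l') ∈ S.Q h := pow_mem hu _
  refine ⟨S.toSer.mem_of_le hl h1, u ^ p ^ (l - l'), hu', ?_, ?_⟩
  · rw [S.cl_pow h hu]; exact nsmul_mem h2 _
  · rw [← pow_mul, ← pow_add, Nat.sub_add_cancel hl]
    exact S.toSer.eqv_mono (by omega) h3

theorem WM_zero (M : AddSubgroup (S.LL h)) {l : ℕ} {x : G} (hx : x ∈ S.Q l) : x ∈ S.WM h M 0 l := by
  refine ⟨hx, 1, one_mem _, by rw [S.cl_one]; exact zero_mem _, ?_⟩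
  rw [one_pow, Nat.add_zero]
  exact S.toSer.eqv_one (S.toSer.pow_mem_iter hx h)

theorem WM_one (M : AddSubgroup (S.LL h)) (m l : ℕ) : (1 : G) ∈ S.WM h M m l :=
  ⟨one_mem _, 1, one_mem _, by rw [S.cl_one]; exact zero_mem _,
    by rw [one_pow, one_pow]; exact S.toSer.eqv_refl _ _⟩

theorem WM_deep (M : AddSubgroup (S.LL h)) {m l : ℕ} {x : G} (hx : x ∈ S.Q (l + m)) : x ∈ S.WM h M m l :=
  S.WM_mono h (l := l + m) (m := 0) (Nat.le_add_right l m) (by omega) (S.WM_zero h M hx)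

variable [hp : Fact p.Prime] (hp2 : p ≠ 2)
include hp2

theorem WM_pow {M : AddSubgroup (S.LL h)} {m l : ℕ} (hm : m ≤ h) {x : G} (hx : x ∈ S.WM h M m l) :
    x ^ p ∈ S.WM h M m (l + 1) := by
  obtain ⟨h1, u, hu, h2, h3⟩ := hx
  refine ⟨S.pow_mem h1, u, hu, h2, ?_⟩
  rw [← pow_mul, mul_comm, pow_mul, pow_succ, pow_mul]
  exact S.toSer.pow_congr hp2 (i := l + h) (S.toSer.pow_mem_iter h1 h) (by omega) h3 (by omega) (by omega)

theorem WM_root {M : AddSubgroup (S.LL h)} {m l : ℕ} (hm : m ≤ h) {x : G} (hl : x ∈ S.Q l)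
    (hx : x ^ p ∈ S.WM h M m (l + 1)) (he : l + 1 + h + m ≤ S.e) : x ∈ S.WM h M m l := by
  obtain ⟨-, u, hu, h2, h3⟩ := hx
  refine ⟨hl, u, hu, h2, ?_⟩
  refine S.cancel hp2 (i := l + h) (k := 1) (m := m) (S.toSer.pow_mem_iter hl h)
    (by rw [add_comm]; exact S.toSer.pow_mem_iter hu l) ?_ (by omega) (by omega)
  have e1 : (x ^ p ^ h) ^ p = (x ^ p) ^ p ^ h := by rw [← pow_mul, ← pow_mul, mul_comm]
  have e2 : (u ^ p ^ l) ^ p = u ^ p ^ (l + 1) := by rw [← pow_mul, ← pow_succ]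
  rw [pow_one, e1, e2]
  exact S.toSer.eqv_mono (by omega) h3

theorem WM_mul_high {M : AddSubgroup (S.LL h)} {m l : ℕ} (hm : m ≤ h) (hl : h ≤ l) {x y : G}
    (hx : x ∈ S.WM h M m l) (hy : y ∈ S.WM h M m l) : x * y ∈ S.WM h M m l := by
  obtain ⟨hx1, u, hu, hu2, hu3⟩ := hx
  obtain ⟨hy1, v, hv, hv2, hv3⟩ := hy
  refine ⟨mul_mem hx1 hy1, u * v, mul_mem hu hv, by rw [S.cl_mul h hu hv]; exact add_mem hu2 hv2, ?_⟩
  exact S.toSer.eqv_trans (S.toSer.pow_mul_iter hp2 hx1 hy1 h (by omega))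
    (S.toSer.eqv_trans (S.toSer.eqv_mul hu3 hv3)
      (S.toSer.eqv_symm (S.toSer.pow_mul_iter hp2 hu hv l (by omega))))

variable (hh : 4 * h + 2 ≤ S.e)
include hh

/-- A bracket triple. -/
def Tri (M₁ M₂ M₃ : AddSubgroup (S.LL h)) : Prop :=
  (∀ a ∈ M₁, ∀ b ∈ M₂, S.br h hp2 hh a b ∈ M₃) ∧ M₃ ≤ M₁ ∧ M₃ ≤ M₂

theorem Tri.swap {M₁ M₂ M₃ : AddSubgroup (S.LL h)} (ht : S.Tri h hp2 hh M₁ M₂ M₃) :
    S.Tri h hp2 hh M₂ M₁ M₃ :=
  ⟨fun a ha b hb => by rw [S.br_skew h hp2 hh b a]; exact neg_mem (ht.1 b hb a ha), ht.2.2, ht.2.1⟩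

/-- Membership of commutators at precision `m`. -/
def TP (m : ℕ) : Prop :=
  ∀ (M₁ M₂ M₃ : AddSubgroup (S.LL h)), S.Tri h hp2 hh M₁ M₂ M₃ → ∀ (i j : ℕ) (x y : G), 2 ≤ i → 2 ≤ j →
    i + j + 3 * m + (h - i) + (h - j) + 2 * h + 1 ≤ S.e → x ∈ S.WM h M₁ m i → y ∈ S.WM h M₂ m j →
    ⁅x, y⁆ ∈ S.WM h M₃ m (i + j)

variable [Finite G]

/-- The subgroup property. -/
theorem WM_mul {m : ℕ} (hm : m ≤ h) (hprev : ∀ n, n + 1 = m → S.TP h hp2 hh n) (hbig : 7 * h + 2 ≤ S.e)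
    {M : AddSubgroup (S.LL h)} (hM : ∀ a ∈ M, ∀ b ∈ M, S.br h hp2 hh a b ∈ M) : ∀ (d l : ℕ), h - l = d → 2 ≤ l →
    ∀ {x y : G}, x ∈ S.WM h M m l → y ∈ S.WM h M m l → x * y ∈ S.WM h M m l := by
  intro d
  induction d using Nat.strong_induction_on with
  | _ d ih =>
    intro l hd hl x y hx hy
    rcases Nat.lt_or_ge l h with hlh | hlh
    swap
    · exact S.WM_mul_high h hp2 hm hlh hx hy
    rcases Nat.eq_zero_or_pos m with rfl | hm1
    · exact S.WM_zero h M (mul_mem hx.1 hy.1)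
    obtain ⟨n, rfl⟩ : ∃ n, n + 1 = m := ⟨m - 1, by omega⟩
    let N : Subgroup G := Subgroup.closure (S.WM h M (n + 1) (l + 1))
    have hN : ∀ z ∈ N, z ∈ S.WM h M (n + 1) (l + 1) := by
      intro z hz
      induction hz using Subgroup.closure_induction with
      | mem z hz => exact hz
      | one => exact S.WM_one h M _ _
      | mul a b _ _ ha hb => exact ih (h - (l + 1)) (by omega) (l + 1) rfl (by omega) ha hb
      | inv a _ ha =>
        have hk : ∀ k : ℕ, a ^ k ∈ S.WM h M (n + 1) (l + 1) := by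
          intro k
          induction k with
          | zero => rw [pow_zero]; exact S.WM_one h M _ _
          | succ k ihk => rw [pow_succ]; exact ih (h - (l + 1)) (by omega) (l + 1) rfl (by omega) ihk ha
        have e : a ^ (orderOf a - 1) = a⁻¹ := by
          refine eq_inv_of_mul_eq_one_left ?_
          rw [← pow_succ, Nat.sub_add_cancel (orderOf_pos a), pow_orderOf_eq_one]
        exact e ▸ hk _
    have hT : ∀ {a b : G}, a ∈ S.WM h M n l → b ∈ S.WM h M n l → ⁅a, b⁆ ∈ N := fun {a b} ha hb =>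
      Subgroup.subset_closure (S.WM_mono h (by omega) (by omega)
        (hprev n rfl M M M ⟨hM, le_rfl, le_rfl⟩ l l a b hl hl (by omega) ha hb))
    have hconj : ∀ a ∈ S.WM h M (n + 1) l, ∀ z ∈ N, a * z * a⁻¹ ∈ N := by
      intro a ha z hz
      have h1 := mul_mem (hT (S.WM_mono h le_rfl (by omega) ha) (S.WM_mono h (by omega) (by omega) (hN z hz))) hz
      rwa [commutatorElement_def, inv_mul_cancel_right] at h1
    have h2 := mul_pow_mem (hconj x hx) (hconj y hy)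
      (hT (S.WM_mono h le_rfl (by omega) hx) (S.WM_mono h le_rfl (by omega) hy)) p
    have h3 : (x * y) ^ p ∈ N := by
      have := mul_mem (mul_mem (Subgroup.subset_closure (S.WM_pow h hp2 hm hx))
        (Subgroup.subset_closure (S.WM_pow h hp2 hm hy))) h2
      rwa [mul_inv_cancel_left] at this
    exact S.WM_root h hp2 hm (mul_mem hx.1 hy.1) (hN _ h3) (by omega)

/-- The subgroup of elements of level `l` with root in `M`. -/
def WS {m : ℕ} (hm : m ≤ h) (hprev : ∀ n, n + 1 = m → S.TP h hp2 hh n) (hbig : 7 * h + 2 ≤ S.e)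
    {M : AddSubgroup (S.LL h)} (hM : ∀ a ∈ M, ∀ b ∈ M, S.br h hp2 hh a b ∈ M) {l : ℕ} (hl : 2 ≤ l) :
    Subgroup G where
  carrier := S.WM h M m l
  mul_mem' := fun {a b} ha hb => S.WM_mul h hp2 hh hm hprev hbig hM _ l rfl hl ha hb
  one_mem' := S.WM_one h M m l
  inv_mem' := fun {a} ha => by
    have hk : ∀ k : ℕ, a ^ k ∈ S.WM h M m l := by
      intro k
      induction k with
      | zero => rw [pow_zero]; exact S.WM_one h M m l
      | succ k ihk => rw [pow_succ]; exact S.WM_mul h hp2 hh hm hprev hbig hM _ l rfl hl ihk ha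
    have e : a ^ (orderOf a - 1) = a⁻¹ := by
      refine eq_inv_of_mul_eq_one_left ?_
      rw [← pow_succ, Nat.sub_add_cancel (orderOf_pos a), pow_orderOf_eq_one]
    exact e ▸ hk _

omit [Finite G] in
theorem comm_base {m : ℕ} (hm : m ≤ h) {M₁ M₂ M₃ : AddSubgroup (S.LL h)} (ht : S.Tri h hp2 hh M₁ M₂ M₃)
    {i j : ℕ} (hi : h ≤ i) (hj : h ≤ j) (he : i + j + 2 * h + m ≤ S.e) {x y : G} (hx : x ∈ S.WM h M₁ m i)
    (hy : y ∈ S.WM h M₂ m j) : ⁅x, y⁆ ∈ S.WM h M₃ m (i + j) := by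
  obtain ⟨hx1, u, hu, hu2, hu3⟩ := hx
  obtain ⟨hy1, v, hv, hv2, hv3⟩ := hy
  obtain ⟨w, hw, hw3⟩ := S.exists_br h hp2 hh hu hv
  have hw2 : S.cl h w ∈ M₃ := by
    rw [← S.br_cl h hp2 hh hu hv hw hw3]; exact ht.1 _ hu2 _ hv2
  have hc : ⁅x, y⁆ ∈ S.Q (i + j) := S.toSer.mem_of_le (by omega) (S.comm hx1 hy1)
  refine ⟨hc, w, hw, hw2, ?_⟩
  refine S.cancel hp2 (i := i + j + h) (k := h) (m := m) (S.toSer.pow_mem_iter hc h)
    (by rw [add_comm]; exact S.toSer.pow_mem_iter hw (i + j)) ?_ (by omega) (by omega)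
  have a1 : S.Eqv (i + j + h + h + m) (⁅x, y⁆ ^ p ^ (h + h)) ⁅x ^ p ^ h, y ^ p ^ h⁆ :=
    S.toSer.eqv_symm (S.toSer.comm_pow_both hp2 hx1 hy1 h h (by omega) (by omega))
  have a2 : S.Eqv (i + j + h + h + m) ⁅x ^ p ^ h, y ^ p ^ h⁆ ⁅u ^ p ^ i, v ^ p ^ j⁆ :=
    S.toSer.eqv_trans (S.toSer.eqv_comm_left hu3 (S.toSer.pow_mem_iter hy1 h) (by omega))
      (S.toSer.eqv_comm_right hv3 (S.toSer.pow_mem_iter hu i) (by omega))
  have a3 : S.Eqv (i + j + h + h + m) ⁅u ^ p ^ i, v ^ p ^ j⁆ (⁅u, v⁆ ^ p ^ (i + j)) :=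
    S.toSer.comm_pow_both hp2 hu hv i j (by omega) (by omega)
  have a4 : S.Eqv (i + j + h + h + m) (⁅u, v⁆ ^ p ^ (i + j)) ((w ^ p ^ h) ^ p ^ (i + j)) :=
    S.toSer.pow_congr_iter hp2 (i := 2 * h) (S.toSer.mem_of_le (by omega) (S.comm hu hv)) (i + j)
      (t := 3 * h) (by omega) (S.toSer.eqv_symm hw3) (by omega) (by omega)
  have a5 := S.toSer.eqv_trans a1 (S.toSer.eqv_trans a2 (S.toSer.eqv_trans a3 a4))
  rw [← pow_mul, ← pow_add, ← pow_mul, ← pow_add]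
  rw [← pow_mul, ← pow_add, add_comm h (i + j)] at a5
  exact a5

theorem comm_step {n : ℕ} (hm : n + 1 ≤ h) (hprev : S.TP h hp2 hh n) (hbig : 7 * h + 2 ≤ S.e)
    {M₁ M₂ M₃ : AddSubgroup (S.LL h)} (ht : S.Tri h hp2 hh M₁ M₂ M₃) {i j : ℕ} (hi : 2 ≤ i) (hj : 2 ≤ j)
    (hih : i < h) (he : i + j + 3 * (n + 1) + (h - i) + (h - j) + 2 * h + 1 ≤ S.e) {x y : G}
    (hx : x ∈ S.WM h M₁ (n + 1) i) (hy : y ∈ S.WM h M₂ (n + 1) j)
    (hup : ⁅x ^ p, y⁆ ∈ S.WM h M₃ (n + 1) (i + 1 + j)) : ⁅x, y⁆ ∈ S.WM h M₃ (n + 1) (i + j) := by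
  have hM₃ : ∀ a ∈ M₃, ∀ b ∈ M₃, S.br h hp2 hh a b ∈ M₃ := fun a ha b hb =>
    ht.1 a (ht.2.1 ha) b (ht.2.2 hb)
  let N := S.WS h hp2 hh hm (fun k hk => (Nat.succ_injective hk) ▸ hprev) hbig hM₃ (l := i + j + 1) (by omega)
  have hx' := S.WM_mono h (m' := n) le_rfl (by omega) hx
  have hc : ⁅x, y⁆ ∈ S.WM h M₃ n (i + j) :=
    hprev M₁ M₂ M₃ ht i j x y hi hj (by omega) hx' (S.WM_mono h le_rfl (by omega) hy)
  have hnest : ∀ {a z : G}, a ∈ S.WM h M₁ n i → z ∈ S.WM h M₃ n (j + 2) → ⁅a, z⁆ ∈ N := fun {a z} ha hz =>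
    show ⁅a, z⁆ ∈ S.WM h M₃ (n + 1) (i + j + 1) from S.WM_mono h (l := i + (j + 2)) (m := n) (by omega) (by omega)
      (hprev M₁ M₂ M₃ ht i (j + 2) a z hi (by omega) (by omega) ha (S.WM_mono_set h ht.2.2 hz))
  have hconjx : ∀ z ∈ N, x * z * x⁻¹ ∈ N := by
    intro z hz
    have h1 := mul_mem (hnest hx' (S.WM_mono h (l := i + j + 1) (m := n + 1) (by omega) (by omega) hz)) hz
    rwa [commutatorElement_def, inv_mul_cancel_right] at h1
  have hcx : ⁅x, ⁅x, y⁆⁆ ∈ N := hnest hx' (S.WM_mono h (by omega) (by omega) hc)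
  have hconjc : ∀ z ∈ N, ⁅x, y⁆ * z * ⁅x, y⁆⁻¹ ∈ N := by
    intro z hz
    have h1 := mul_mem (hnest (S.WM_mono_set h ht.2.1 (S.WM_mono h (by omega) (by omega) hc))
      (S.WM_mono h (l := i + j + 1) (m := n + 1) (by omega) (by omega) hz)) hz
    rwa [commutatorElement_def ⁅x, y⁆, inv_mul_cancel_right] at h1
  set c := ⁅x, y⁆ with hcdef
  have hconjc' := conj_inv_mem hconjc
  have hpowc : ∀ t : ℕ, ∃ z ∈ N, (x * c * x⁻¹) ^ t = c ^ t * z := by
    intro t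
    induction t with
    | zero => exact ⟨1, one_mem _, by simp⟩
    | succ t iht =>
      obtain ⟨z, hz, e⟩ := iht
      refine ⟨c⁻¹ * (z * ⁅x, c⁆) * c, hconjc' _ (mul_mem hz hcx), ?_⟩
      rw [pow_succ, e, commutatorElement_def x c]
      group
  have hform : ∀ t : ℕ, ∃ z ∈ N, ⁅x ^ t, y⁆ = c ^ t * z := by
    intro t
    induction t with
    | zero => exact ⟨1, one_mem _, by simp [commutatorElement_def]⟩
    | succ t iht =>
      obtain ⟨z, hz, e⟩ := iht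
      obtain ⟨z', hz', e'⟩ := hpowc t
      refine ⟨c⁻¹ * (z' * (x * z * x⁻¹)) * c, hconjc' _ (mul_mem hz' (hconjx z hz)), ?_⟩
      have e1 : ⁅x ^ (t + 1), y⁆ = x * ⁅x ^ t, y⁆ * x⁻¹ * c := by
        rw [hcdef, pow_succ']; simp only [commutatorElement_def]; group
      have e2 : x * (c ^ t * z) * x⁻¹ = (x * c * x⁻¹) ^ t * (x * z * x⁻¹) := by rw [conj_pow]; group
      rw [e1, e, e2, e', pow_succ]
      group
  obtain ⟨z, hz, e⟩ := hform p
  have h1 : c ^ p ∈ N := by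
    have h2 : ⁅x ^ p, y⁆ ∈ N := show _ ∈ S.WM h M₃ (n + 1) (i + j + 1) by
      rwa [show i + 1 + j = i + j + 1 by omega] at hup
    have := mul_mem h2 (inv_mem hz)
    rwa [e, mul_inv_cancel_right] at this
  exact S.WM_root h hp2 hm hc.1 h1 (by omega)

theorem tp_all (hbig : 7 * h + 2 ≤ S.e) : ∀ m, m ≤ h → S.TP h hp2 hh m := by
  intro m
  induction m with
  | zero =>
    intro _ M₁ M₂ M₃ _ i j x y _ _ _ hx hy
    exact S.WM_zero h M₃ (S.toSer.mem_of_le (by omega) (S.comm hx.1 hy.1))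
  | succ n ihn =>
    intro hm
    have hprev := ihn (by omega)
    suffices H : ∀ (d : ℕ) (M₁ M₂ M₃ : AddSubgroup (S.LL h)), S.Tri h hp2 hh M₁ M₂ M₃ → ∀ (i j : ℕ) (x y : G),
        (h - i) + (h - j) = d → 2 ≤ i → 2 ≤ j → i + j + 3 * (n + 1) + (h - i) + (h - j) + 2 * h + 1 ≤ S.e →
        x ∈ S.WM h M₁ (n + 1) i → y ∈ S.WM h M₂ (n + 1) j → ⁅x, y⁆ ∈ S.WM h M₃ (n + 1) (i + j) from
      fun M₁ M₂ M₃ ht i j x y => H _ M₁ M₂ M₃ ht i j x y rfl
    intro d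
    induction d using Nat.strong_induction_on with
    | _ d ih =>
      intro M₁ M₂ M₃ ht i j x y hd hi hj he hx hy
      rcases Nat.lt_or_ge i h with hih | hih
      · exact S.comm_step h hp2 hh hm hprev hbig ht hi hj hih he hx hy
          (ih ((h - (i + 1)) + (h - j)) (by omega) M₁ M₂ M₃ ht (i + 1) j (x ^ p) y rfl (by omega) hj (by omega)
            (S.WM_pow h hp2 hm hx) hy)
      rcases Nat.lt_or_ge j h with hjh | hjh
      · have h1 := S.comm_step h hp2 hh hm hprev hbig (Tri.swap S h hp2 hh ht) hj hi hjh (by omega) hy hx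
          (ih ((h - (j + 1)) + (h - i)) (by omega) M₂ M₁ M₃ (Tri.swap S h hp2 hh ht) (j + 1) i (y ^ p) x rfl
            (by omega) hi (by omega) (S.WM_pow h hp2 hm hy) hx)
        have hM₃ : ∀ a ∈ M₃, ∀ b ∈ M₃, S.br h hp2 hh a b ∈ M₃ := fun a ha b hb =>
          ht.1 a (ht.2.1 ha) b (ht.2.2 hb)
        have h2 := (S.WS h hp2 hh hm (fun k hk => (Nat.succ_injective hk) ▸ hprev) hbig hM₃ (l := j + i)
          (by omega)).inv_mem h1
        have h3 : ⁅y, x⁆⁻¹ ∈ S.WM h M₃ (n + 1) (j + i) := h2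
        rw [commutatorElement_inv, add_comm j i] at h3
        exact h3
      · exact S.comm_base h hp2 hh hm ht hih hjh (by omega) hx hy

end Seg

end Cfsg.Agent.Alperin23
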