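import Cfsg.Agent.Lib.Alperin23.SegRoot

/-!
# Bounded derived length of a segment
-/

set_option autoImplicit false
set_option linter.style.haveILetI false

namespace Cfsg.Agent.Alperin23

open scoped commutatorElement

universe u

/-- The bound for the derived length of one segment. -/
def segBound (p n : ℕ) : ℕ := 14 * ((n + 1) * 2 ^ (2 ^ (p - 1) - 1)) + (2 ^ (p - 1) - 1) + 24

variable {p : ℕ} {G : Type u} [Group G]

namespace Seg

variable (S : Seg p G)

theorem dS_le_add (i : ℕ) : ∀ k, dS (S.Q i) k ≤ S.Q (i + k) := by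
  intro k
  induction k with
  | zero => exact le_rfl
  | succ k ih =>
    rw [dS_succ]
    exact (Subgroup.commutator_mono ih ih).trans (Subgroup.commutator_le.mpr fun x hx y hy =>
      S.toSer.mem_of_le (by omega) (S.comm hx hy))

theorem dS_le_mul (i : ℕ) : ∀ k, dS (S.Q i) k ≤ S.Q (i * 2 ^ k) := by
  intro k
  induction k with
  | zero => simp [dS]
  | succ k ih =>
    rw [dS_succ]
    refine (Subgroup.commutator_mono ih ih).trans (Subgroup.commutator_le.mpr fun x hx y hy =>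
      S.toSer.mem_of_le ?_ (S.comm hx hy))
    rw [pow_succ, ← mul_assoc]
    omega

theorem bound [Finite G] [hp : Fact p.Prime] (hp2 : p ≠ 2) (n : ℕ) (α : MulAut G) (hα : α ^ p = 1)
    (hinv : ∀ i, ∀ x ∈ S.Q i, α x ∈ S.Q i)
    (hfix : ∀ i j x, i ≤ j → x ∈ S.Q i → S.Eqv j (α x) x → x ^ p ^ n ∈ S.Q j) :
    dS (S.Q 0) (segBound p n) ≤ S.Q S.e := by
  set s := 2 ^ (p - 1) - 1 with hs
  set c := (n + 1) * 2 ^ s with hc
  have hF : segBound p n = 14 * c + s + 24 := rfl
  rcases Nat.lt_or_ge S.e (14 * c + 16) with he | he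
  · exact (S.dS_le_add 0 _).trans (S.toSer.anti (by omega))
  set h := (S.e - 2) / 7 with hhdef
  have hh : 4 * h + 2 ≤ S.e := by omega
  have hbig : 7 * h + 2 ≤ S.e := by omega
  have hlow : S.e ≤ 7 * h + 8 := by omega
  have hch : 2 * c ≤ h := by omega
  letI := S.lieRing h hp2 hh
  have hcl : ∀ k, ∀ a ∈ Ls (S.LL h) k, ∀ b ∈ Ls (S.LL h) k, S.br h hp2 hh a b ∈ Ls (S.LL h) k :=
    fun k a ha b hb => Ls_succ_le k (lie_mem_Ls ha hb)
  have hprev : ∀ k, k + 1 = h → S.TP h hp2 hh k := fun k hk => S.tp_all h hp2 hh hbig k (by omega)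
  let W := fun k => S.WS h hp2 hh (le_refl h) hprev hbig (hcl k) (l := 2) le_rfl
  have hW : ∀ k, dS (S.Q 2) k ≤ W k := by
    intro k
    induction k with
    | zero =>
      intro x hx
      obtain ⟨u, hu, h1⟩ := S.root hp2 (i := h) (k := 2) h (z := x ^ p ^ h)
        (by rw [add_comm]; exact S.toSer.pow_mem_iter hx h) (by omega) (by omega)
      exact ⟨hx, u, hu, show S.cl h u ∈ (⊤ : AddSubgroup (S.LL h)) from trivial,
        S.toSer.eqv_mono (by omega) (S.toSer.eqv_symm h1)⟩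
    | succ k ih =>
      rw [dS_succ]
      refine Subgroup.commutator_le.mpr fun x hx y hy => ?_
      exact S.WM_mono h (by omega) (by omega) (S.tp_all h hp2 hh hbig h le_rfl (Ls (S.LL h) k) (Ls (S.LL h) k)
        (Ls (S.LL h) (k + 1)) ⟨fun a ha b hb => lie_mem_Ls ha hb, Ls_succ_le k, Ls_succ_le k⟩ 2 2 x y le_rfl le_rfl
        (by omega) (ih hx) (ih hy))
  have hlast : dS (S.Q 2) s ≤ S.Q (2 + (h - c)) := by
    intro x hx
    obtain ⟨hx2, u, hu, hu2, hu3⟩ := hW s hx
    have hphi := derived_torsion (M := S.LL h) (S.lmap h α hinv) (fun a b => S.lmap_br h hp2 hh α hinv a b)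
      (fun a => S.lmap_periodic h α hinv hα a) (p ^ n) (fun a ha => by
        obtain ⟨z, hz, rfl⟩ := S.exists_cl h a
        rw [S.lmap_cl h α hinv hz, S.cl_eq h (hinv _ _ hz) hz] at ha
        rw [← S.cl_pow h hz, S.cl_eq_zero h (pow_mem hz _)]
        exact hfix h (2 * h) z (by omega) hz ha) (S.cl h u) hu2
    rw [← pow_succ', ← pow_mul, show (n + 1) * 2 ^ (2 ^ (p - 1) - 1) = c from rfl, ← S.cl_pow h hu,
      S.cl_eq_zero h (pow_mem hu _)] at hphi
    have h1 : u ∈ S.Q (h + (h - c)) :=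
      S.inj_iter (k := c) (h - c) hu (S.toSer.mem_of_le (by omega) hphi) (by omega)
    have h2 : u ^ p ^ 2 ∈ S.Q (2 + h + (h - c)) := S.toSer.mem_of_le (by omega) (S.toSer.pow_mem_iter h1 2)
    have h3 : x ^ p ^ h ∈ S.Q (2 + h + (h - c)) :=
      S.toSer.mem_of_eqv (S.toSer.eqv_mono (by omega) hu3) h2
    exact S.inj_iter (h - c) hx2 h3 (by omega)
  have h02 : dS (S.Q 0) 2 ≤ S.Q 2 := S.dS_le_add 0 2
  refine (dS_anti _ (show 2 + (s + 5) ≤ segBound p n by omega)).trans ?_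
  rw [dS_add]
  refine (dS_mono h02 _).trans ?_
  rw [dS_add]
  refine (dS_mono hlast _).trans ((S.dS_le_mul _ 5).trans (S.toSer.anti ?_))
  omega

end Seg

end Cfsg.Agent.Alperin23
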