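import Cfsg.Agent.Lib.Transfer.ClassTwo

/-!
# Power and commutator congruences along a series of a `p`-group, `p` odd
-/

set_option autoImplicit false
set_option linter.style.haveILetI false

namespace Cfsg.Agent.Alperin23

open scoped commutatorElement

universe u

/-- A descending series compatible with commutators and `p`-th powers. -/
structure Ser (p : ℕ) (G : Type u) [Group G] where
  Q : ℕ → Subgroup G
  normal : ∀ i, (Q i).Normal
  succ_le : ∀ i, Q (i + 1) ≤ Q i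
  comm : ∀ {i j : ℕ} {x y : G}, x ∈ Q i → y ∈ Q j → ⁅x, y⁆ ∈ Q (i + j + 1)
  pow_mem : ∀ {i : ℕ} {x : G}, x ∈ Q i → x ^ p ∈ Q (i + 1)

variable {p : ℕ} {G : Type u} [Group G]

namespace Ser

variable (S : Ser p G)

theorem anti {a b : ℕ} (h : a ≤ b) : S.Q b ≤ S.Q a := by
  induction h with
  | refl => exact le_rfl
  | step _ ih => exact (S.succ_le _).trans ih

theorem mem_of_le {a b : ℕ} (h : a ≤ b) {x : G} (hx : x ∈ S.Q b) : x ∈ S.Q a := S.anti h hx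

theorem pow_mem_iter {i : ℕ} {x : G} (hx : x ∈ S.Q i) : ∀ k, x ^ p ^ k ∈ S.Q (i + k) := by
  intro k
  induction k with
  | zero => simpa using hx
  | succ k ih => rw [pow_succ, pow_mul, ← add_assoc]; exact S.pow_mem ih

/-- Congruence modulo a term of the series. -/
def Eqv (t : ℕ) (a b : G) : Prop := a⁻¹ * b ∈ S.Q t

theorem eqv_refl (t : ℕ) (a : G) : S.Eqv t a a := by simp [Eqv]

theorem eqv_of_eq {t : ℕ} {a b : G} (h : a = b) : S.Eqv t a b := h ▸ S.eqv_refl t a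

theorem eqv_symm {t : ℕ} {a b : G} (h : S.Eqv t a b) : S.Eqv t b a := by
  have := inv_mem h
  simpa [Eqv, mul_inv_rev] using this

theorem eqv_trans {t : ℕ} {a b c : G} (h : S.Eqv t a b) (h' : S.Eqv t b c) : S.Eqv t a c := by
  have := mul_mem h h'
  simpa [Eqv, mul_assoc] using this

theorem eqv_mono {s t : ℕ} (hst : s ≤ t) {a b : G} (h : S.Eqv t a b) : S.Eqv s a b := S.anti hst h

theorem eqv_one {t : ℕ} {a : G} (h : a ∈ S.Q t) : S.Eqv t a 1 := by simpa [Eqv] using h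

theorem mem_of_eqv {t : ℕ} {a b : G} (h : S.Eqv t a b) (hb : b ∈ S.Q t) : a ∈ S.Q t := by
  have := mul_mem hb (inv_mem h)
  simpa [mul_inv_rev, ← mul_assoc] using this

theorem eqv_mk {t : ℕ} [(S.Q t).Normal] {a b : G} : S.Eqv t a b ↔ (a : G ⧸ S.Q t) = (b : G ⧸ S.Q t) :=
  QuotientGroup.eq.symm

theorem eqv_mul {t : ℕ} {a a' b b' : G} (h : S.Eqv t a a') (h' : S.Eqv t b b') : S.Eqv t (a * b) (a' * b') := by
  haveI := S.normal t
  rw [eqv_mk] at h h' ⊢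
  rw [QuotientGroup.mk_mul, QuotientGroup.mk_mul, h, h']

theorem eqv_inv {t : ℕ} {a a' : G} (h : S.Eqv t a a') : S.Eqv t a⁻¹ a'⁻¹ := by
  haveI := S.normal t
  rw [eqv_mk] at h ⊢
  rw [QuotientGroup.mk_inv, QuotientGroup.mk_inv, h]

theorem eqv_pow {t : ℕ} {a a' : G} (h : S.Eqv t a a') (n : ℕ) : S.Eqv t (a ^ n) (a' ^ n) := by
  haveI := S.normal t
  rw [eqv_mk] at h ⊢
  rw [QuotientGroup.mk_pow, QuotientGroup.mk_pow, h]

theorem conj_mem {t : ℕ} {x : G} (hx : x ∈ S.Q t) (g : G) : g * x * g⁻¹ ∈ S.Q t :=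
  (S.normal t).conj_mem x hx g

theorem eqv_comm_left {t j s : ℕ} {a a' y : G} (h : S.Eqv t a a') (hy : y ∈ S.Q j) (hs : s ≤ t + j + 1) :
    S.Eqv s ⁅a, y⁆ ⁅a', y⁆ := by
  refine S.eqv_symm ?_
  show ⁅a', y⁆⁻¹ * ⁅a, y⁆ ∈ S.Q s
  have e : ⁅a', y⁆ = (a * ⁅a⁻¹ * a', y⁆ * a⁻¹) * ⁅a, y⁆ := by
    simp only [commutatorElement_def]; group
  rw [e, show ((a * ⁅a⁻¹ * a', y⁆ * a⁻¹) * ⁅a, y⁆)⁻¹ * ⁅a, y⁆
    = ⁅a, y⁆⁻¹ * (a * ⁅a⁻¹ * a', y⁆ * a⁻¹)⁻¹ * (⁅a, y⁆⁻¹)⁻¹ by group]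
  exact S.conj_mem (inv_mem (S.conj_mem (S.mem_of_le hs (S.comm h hy)) a)) _

theorem eqv_comm_right {t j s : ℕ} {a a' y : G} (h : S.Eqv t a a') (hy : y ∈ S.Q j) (hs : s ≤ j + t + 1) :
    S.Eqv s ⁅y, a⁆ ⁅y, a'⁆ := by
  rw [← commutatorElement_inv a y, ← commutatorElement_inv a' y]
  exact S.eqv_inv (S.eqv_comm_left h hy (by omega))

variable [hp : Fact p.Prime] (hp2 : p ≠ 2)
include hp2

theorem pow_mul_eqv {i t : ℕ} {a b : G} (ha : a ∈ S.Q i) (hb : b ∈ S.Q i) (ht : t ≤ 2 * i + 2) :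
    S.Eqv t ((a * b) ^ p) (a ^ p * b ^ p) := by
  haveI := S.normal t
  have hc : ⁅b, a⁆ ∈ S.Q (2 * i + 1) := S.mem_of_le (by omega) (S.comm hb ha)
  have hone : ∀ x, x ∈ S.Q t → (x : G ⧸ S.Q t) = 1 := fun x hx => (QuotientGroup.eq_one_iff x).mpr hx
  rw [eqv_mk, QuotientGroup.mk_pow, QuotientGroup.mk_mul, QuotientGroup.mk_mul, QuotientGroup.mk_pow,
    QuotientGroup.mk_pow]
  have hcomm : ∀ z ∈ S.Q i, Commute (⁅(b : G ⧸ S.Q t), (a : G ⧸ S.Q t)⁆) (z : G ⧸ S.Q t) := by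
    intro z hz
    rw [← commutatorElement_eq_one_iff_commute]
    exact hone ⁅⁅b, a⁆, z⁆ (S.mem_of_le (by omega) (S.comm hc hz))
  rw [Transfer.mul_pow_of_commute (hcomm a ha) (hcomm b hb)]
  obtain ⟨k, hk⟩ := hp.out.dvd_choose_self (k := 2) (by norm_num) (lt_of_le_of_ne hp.out.two_le (Ne.symm hp2))
  rw [hk, pow_mul, show ⁅(b : G ⧸ S.Q t), (a : G ⧸ S.Q t)⁆ ^ p = ((⁅b, a⁆ ^ p : G) : G ⧸ S.Q t) from rfl,
    hone _ (S.mem_of_le (by omega) (S.pow_mem hc)), one_pow, mul_one]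

theorem pow_congr {i t s : ℕ} {a b : G} (ha : a ∈ S.Q i) (hit : i ≤ t) (h : S.Eqv t a b)
    (hs1 : s ≤ 2 * i + 2) (hs2 : s ≤ t + 1) : S.Eqv s (a ^ p) (b ^ p) := by
  have h1 := S.pow_mul_eqv hp2 ha (S.mem_of_le hit h) hs1
  rw [mul_inv_cancel_left] at h1
  refine S.eqv_symm (S.eqv_trans h1 ?_)
  have h2 := S.eqv_mul (S.eqv_refl s (a ^ p)) (S.eqv_one (S.mem_of_le hs2 (S.pow_mem h)))
  rwa [mul_one] at h2

theorem pow_congr_iter {i : ℕ} {a b : G} (ha : a ∈ S.Q i) : ∀ (k : ℕ) {t s : ℕ}, i ≤ t → S.Eqv t a b →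
    s ≤ t + k → s ≤ 2 * i + 1 + k → S.Eqv s (a ^ p ^ k) (b ^ p ^ k) := by
  intro k
  induction k with
  | zero => intro t s _ h hs1 _; simpa using S.eqv_mono (by omega : s ≤ t) h
  | succ k ih =>
    intro t s hit h hs1 hs2
    rw [pow_succ, pow_mul, pow_mul]
    exact S.pow_congr hp2 (S.pow_mem_iter ha k) (t := min (t + k) (2 * i + 1 + k)) (by omega)
      (ih hit h (min_le_left _ _) (min_le_right _ _)) (by omega) (by omega)

theorem pow_mul_iter {i : ℕ} {a b : G} (ha : a ∈ S.Q i) (hb : b ∈ S.Q i) : ∀ (k : ℕ) {s : ℕ},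
    s ≤ 2 * i + 1 + k → S.Eqv s ((a * b) ^ p ^ k) (a ^ p ^ k * b ^ p ^ k) := by
  intro k
  induction k with
  | zero => intro s _; simpa using S.eqv_refl s (a * b)
  | succ k ih =>
    intro s hs
    simp only [pow_succ, pow_mul]
    exact S.eqv_trans
      (S.pow_congr hp2 (S.pow_mem_iter (mul_mem ha hb) k) (t := 2 * i + 1 + k) (by omega) (ih le_rfl)
        (by omega) (by omega))
      (S.pow_mul_eqv hp2 (S.pow_mem_iter ha k) (S.pow_mem_iter hb k) (by omega))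

theorem comm_pow {i j s : ℕ} {x y : G} (hx : x ∈ S.Q i) (hy : y ∈ S.Q j) (hs : s ≤ 2 * i + j + 3) :
    S.Eqv s ⁅x ^ p, y⁆ (⁅x, y⁆ ^ p) := by
  haveI := S.normal s
  have hone : ∀ z, z ∈ S.Q s → (z : G ⧸ S.Q s) = 1 := fun z hz => (QuotientGroup.eq_one_iff z).mpr hz
  set X : G ⧸ S.Q s := (x : G ⧸ S.Q s)
  set Y : G ⧸ S.Q s := (y : G ⧸ S.Q s)
  set C := ⁅X, Y⁆ with hC
  set D := ⁅X, C⁆ with hD
  have hd : ⁅x, ⁅x, y⁆⁆ ∈ S.Q (2 * i + j + 2) := S.mem_of_le (by omega) (S.comm hx (S.comm hx hy))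
  have hDX : Commute X D := commutatorElement_eq_one_iff_commute.mp
    (hone ⁅x, ⁅x, ⁅x, y⁆⁆⁆ (S.mem_of_le (by omega) (S.comm hx hd)))
  have hDC : Commute C D := commutatorElement_eq_one_iff_commute.mp
    (hone ⁅⁅x, y⁆, ⁅x, ⁅x, y⁆⁆⁆ (S.mem_of_le (by omega) (S.comm (S.comm hx hy) hd)))
  have hform : ∀ n : ℕ, ⁅X ^ n, Y⁆ = C ^ n * D ^ n.choose 2 := by
    intro n
    induction n with
    | zero => simp [commutatorElement_def]
    | succ n ih =>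
      have e1 : ⁅X ^ (n + 1), Y⁆ = X * ⁅X ^ n, Y⁆ * X⁻¹ * C := by
        rw [hC, pow_succ']; simp only [commutatorElement_def]; group
      have e2 : X * C * X⁻¹ = D * C := by rw [hD, commutatorElement_def X C]; group
      have e3 : X * D ^ n.choose 2 * X⁻¹ = D ^ n.choose 2 := by
        rw [(hDX.pow_right _).eq, mul_inv_cancel_right]
      have e4 : X * (C ^ n * D ^ n.choose 2) * X⁻¹ = (X * C * X⁻¹) ^ n * (X * D ^ n.choose 2 * X⁻¹) := by
        rw [conj_pow]; group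
      rw [e1, ih, e4, e2, e3, hDC.symm.mul_pow, Nat.choose_succ_succ', Nat.choose_one_right, pow_succ, pow_add,
        (hDC.symm.pow_pow n n).eq]
      simp only [mul_assoc]
      rw [← (hDC.pow_right (n.choose 2)).eq, ← mul_assoc (D ^ n) C, ← (hDC.pow_right n).eq, mul_assoc]
  obtain ⟨k, hk⟩ := hp.out.dvd_choose_self (k := 2) (by norm_num) (lt_of_le_of_ne hp.out.two_le (Ne.symm hp2))
  have hDp : D ^ p = 1 := hone (⁅x, ⁅x, y⁆⁆ ^ p) (S.mem_of_le (by omega) (S.pow_mem hd))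
  rw [eqv_mk]
  show ⁅X ^ p, Y⁆ = C ^ p
  rw [hform, hk, pow_mul, hDp, one_pow, mul_one]

theorem comm_pow_iter {i j : ℕ} {x y : G} (hx : x ∈ S.Q i) (hy : y ∈ S.Q j) : ∀ (k : ℕ) {s : ℕ},
    s ≤ 2 * i + j + 2 + k → S.Eqv s ⁅x ^ p ^ k, y⁆ (⁅x, y⁆ ^ p ^ k) := by
  intro k
  induction k with
  | zero => intro s _; simpa using S.eqv_refl s ⁅x, y⁆
  | succ k ih =>
    intro s hs
    simp only [pow_succ, pow_mul]
    exact S.eqv_trans (S.comm_pow hp2 (S.pow_mem_iter hx k) hy (by omega))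
      (S.pow_congr hp2 (i := i + k + j + 1) (S.comm (S.pow_mem_iter hx k) hy) (t := 2 * i + j + 2 + k)
        (by omega) (ih le_rfl) (by omega) (by omega))

theorem comm_pow_both {i j : ℕ} {x y : G} (hx : x ∈ S.Q i) (hy : y ∈ S.Q j) (a b : ℕ) {s : ℕ}
    (hs1 : s ≤ 2 * i + j + 2 + a + b) (hs2 : s ≤ i + 2 * j + 2 + a + b) :
    S.Eqv s ⁅x ^ p ^ a, y ^ p ^ b⁆ (⁅x, y⁆ ^ p ^ (a + b)) := by
  have hy' := S.pow_mem_iter hy b
  refine S.eqv_trans (S.comm_pow_iter hp2 hx hy' a (by omega)) ?_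
  have h1 : S.Eqv (i + 2 * j + 2 + b) ⁅x, y ^ p ^ b⁆ (⁅x, y⁆ ^ p ^ b) := by
    rw [← commutatorElement_inv (y ^ p ^ b) x, ← commutatorElement_inv y x, inv_pow]
    exact S.eqv_inv (S.comm_pow_iter hp2 hy hx b (by omega))
  rw [add_comm a b, pow_add, pow_mul]
  exact S.pow_congr_iter hp2 (S.comm hx hy') a (by omega) h1 (by omega) (by omega)

end Ser

/-- A segment on which the `p`-th power maps between consecutive sections are bijective. -/
structure Seg (p : ℕ) (G : Type u) [Group G] extends Ser p G where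
  e : ℕ
  surj : ∀ {i : ℕ} {z : G}, i + 2 ≤ e → z ∈ Q (i + 1) → ∃ x ∈ Q i, (x ^ p)⁻¹ * z ∈ Q (i + 2)
  inj : ∀ {i : ℕ} {x : G}, i + 2 ≤ e → x ∈ Q i → x ^ p ∈ Q (i + 2) → x ∈ Q (i + 1)

namespace Seg

variable (S : Seg p G)

theorem inj_step : ∀ (k : ℕ) {i : ℕ} {x : G}, x ∈ S.Q i → x ^ p ^ k ∈ S.Q (i + k + 1) → i + k + 1 ≤ S.e →
    x ∈ S.Q (i + 1) := by
  intro k
  induction k with
  | zero => intro i x _ h _; simpa using h
  | succ k ih =>
    intro i x hx h he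
    refine S.inj (by omega) hx (ih (S.pow_mem hx) ?_ (by omega))
    rw [← pow_mul, ← pow_succ']
    exact S.toSer.mem_of_le (by omega) h

theorem inj_iter {i k : ℕ} {x : G} : ∀ (m : ℕ), x ∈ S.Q i → x ^ p ^ k ∈ S.Q (i + k + m) → i + k + m ≤ S.e →
    x ∈ S.Q (i + m) := by
  intro m
  induction m with
  | zero => intro hx _ _; exact hx
  | succ m ih =>
    intro hx h he
    have h' : x ^ p ^ k ∈ S.Q ((i + m) + k + 1) := S.toSer.mem_of_le (by omega) h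
    have hx' : x ∈ S.Q (i + m) := ih hx (S.toSer.mem_of_le (by omega) h) (by omega)
    have := S.inj_step k hx' h' (by omega)
    rwa [← add_assoc]

variable [hp : Fact p.Prime] (hp2 : p ≠ 2)
include hp2

theorem cancel {i k m : ℕ} {a b : G} (ha : a ∈ S.Q i) (hb : b ∈ S.Q i)
    (h : S.Eqv (i + k + m) (a ^ p ^ k) (b ^ p ^ k)) (hm : m ≤ i + 1) (he : i + k + m ≤ S.e) :
    S.Eqv (i + m) a b := by
  have hd : a⁻¹ * b ∈ S.Q i := mul_mem (inv_mem ha) hb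
  refine S.inj_iter m hd ?_ he
  have h1 := S.toSer.pow_mul_iter hp2 ha hd k (s := i + k + m) (by omega)
  rw [mul_inv_cancel_left] at h1
  have h3 := S.toSer.eqv_trans h h1
  have h4 : (a ^ p ^ k)⁻¹ * (a ^ p ^ k * (a⁻¹ * b) ^ p ^ k) ∈ S.Q (i + k + m) := h3
  rwa [inv_mul_cancel_left] at h4

omit hp2 in
theorem root_step : ∀ (k : ℕ) {i : ℕ} {z : G}, z ∈ S.Q (i + k) → i + k + 1 ≤ S.e →
    1 ≤ k → ∃ w ∈ S.Q (i + k - 1), S.Eqv (i + k + 1) (w ^ p) z := by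
  intro k i z hz he hk
  have h : (i + k - 1) + 2 ≤ S.e := by omega
  obtain ⟨x, hx, h1⟩ := S.surj h (by rwa [show i + k - 1 + 1 = i + k by omega])
  exact ⟨x, hx, S.toSer.mem_of_le (by omega) h1⟩

theorem root_one : ∀ (k : ℕ) {i : ℕ} {z : G}, z ∈ S.Q (i + k) → i + k + 1 ≤ S.e →
    ∃ w ∈ S.Q i, S.Eqv (i + k + 1) (w ^ p ^ k) z := by
  intro k
  induction k with
  | zero => intro i z hz _; exact ⟨z, by simpa using hz, by simpa using S.toSer.eqv_refl _ z⟩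
  | succ k ih =>
    intro i z hz he
    obtain ⟨w, hw, hwz⟩ := S.root_step (k + 1) hz he (by omega)
    obtain ⟨v, hv, hvw⟩ := ih (i := i) (z := w) (by simpa [← add_assoc] using hw) (by omega)
    refine ⟨v, hv, S.toSer.eqv_trans ?_ hwz⟩
    rw [pow_succ, pow_mul]
    exact S.toSer.pow_congr hp2 (S.toSer.pow_mem_iter hv k) (by omega) hvw (by omega) (by omega)

theorem root {i k : ℕ} {z : G} : ∀ (m : ℕ), z ∈ S.Q (i + k) → m ≤ i + 1 → i + k + m ≤ S.e →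
    ∃ x ∈ S.Q i, S.Eqv (i + k + m) (x ^ p ^ k) z := by
  intro m
  induction m with
  | zero =>
    intro hz _ _
    exact ⟨1, one_mem _, by simpa [Ser.Eqv] using hz⟩
  | succ m ih =>
    intro hz hm he
    obtain ⟨x, hx, hxz⟩ := ih hz (by omega) (by omega)
    obtain ⟨w, hw, hwr⟩ := S.root_one hp2 k (i := i + m) (z := (x ^ p ^ k)⁻¹ * z)
      (S.toSer.mem_of_le (by omega) hxz) (by omega)
    refine ⟨x * w, mul_mem hx (S.toSer.mem_of_le (by omega) hw), ?_⟩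
    refine S.toSer.eqv_trans (S.toSer.pow_mul_iter hp2 hx (S.toSer.mem_of_le (by omega) hw) k (by omega)) ?_
    have h1 := S.toSer.eqv_mul (S.toSer.eqv_refl (i + k + (m + 1)) (x ^ p ^ k))
      (S.toSer.eqv_mono (by omega : i + k + (m + 1) ≤ i + m + k + 1) hwr)
    rwa [mul_inv_cancel_left] at h1

end Seg

end Cfsg.Agent.Alperin23
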