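import Cfsg.Agent.Lib.Alperin23.PGroup
import Cfsg.Agent.Lib.Basics.Frattini

/-!
# A `2`-group with an involutory automorphism with few fixed points
-/

set_option autoImplicit false
set_option linter.style.haveILetI false

namespace Cfsg.Agent.Alperin23

open scoped commutatorElement

universe u

variable {P : Type u} [Group P] [Finite P]

/-- Commuting probability from inverted elements. -/
theorem card_sq_le (α : MulAut P) (hα : α ^ 2 = 1) :
    Nat.card P ^ 2 ≤ Nat.card {g : P // α g = g} ^ 2 * ∑ᶠ z : P, Nat.card (Subgroup.centralizer ({z} : Set P)) := by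
  classical
  haveI := Fintype.ofFinite P
  let μ : P → P := fun x => x⁻¹ * α x
  let I := Set.range μ
  have hI : ∀ z ∈ I, α z = z⁻¹ := by
    rintro _ ⟨x, rfl⟩
    have : α (α x) = x := by
      rw [← MulAut.mul_apply, ← pow_two, hα]; rfl
    simp [μ, map_mul, map_inv, this, mul_inv_rev]
  have hex : ∀ z ∈ I, ∃ x, μ x = z := fun z hz => hz
  choose! sec hsec using hex
  have h1 : Nat.card P ≤ Nat.card {g : P // α g = g} * Nat.card I := by
    let e : P → {g : P // α g = g} × I := fun x => (⟨x * (sec (μ x))⁻¹, by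
      have h : (sec (μ x))⁻¹ * α (sec (μ x)) = x⁻¹ * α x := hsec (μ x) ⟨x, rfl⟩
      rw [map_mul, map_inv]
      calc α x * (α (sec (μ x)))⁻¹ = x * (x⁻¹ * α x) * (α (sec (μ x)))⁻¹ := by group
        _ = x * (sec (μ x))⁻¹ := by rw [← h]; group⟩, ⟨μ x, x, rfl⟩)
    have hinj : Function.Injective e := by
      intro x y h
      have h1 : μ x = μ y := congrArg Subtype.val (congrArg Prod.snd h)
      have h2 : x * (sec (μ x))⁻¹ = y * (sec (μ y))⁻¹ := congrArg Subtype.val (congrArg Prod.fst h)
      rw [h1] at h2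
      exact mul_right_cancel h2
    have := Nat.card_le_card_of_injective e hinj
    rwa [Nat.card_prod] at this
  have h2 : Nat.card I * Nat.card I ≤ ∑ᶠ z : P, Nat.card (Subgroup.centralizer ({z} : Set P)) := by
    let prd : I × I → P := fun w => (w.1 : P) * w.2
    have hex2 : ∀ z ∈ Set.range prd, ∃ w, prd w = z := fun z hz => hz
    haveI : Nonempty (I × I) := ⟨(⟨1, 1, by simp [μ]⟩, ⟨1, 1, by simp [μ]⟩)⟩
    choose! rep hrep using hex2
    have key : ∀ w : I × I, (w.1 : P) * ((rep (prd w)).1 : P)⁻¹ ∈ Subgroup.centralizer ({prd w} : Set P) := by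
      intro w
      have ha : ∀ v : I × I, prd v = prd w → α (prd w) = (v.1 : P)⁻¹ * (prd w)⁻¹ * v.1 := by
        intro v hv
        rw [← hv]
        show α ((v.1 : P) * v.2) = (v.1 : P)⁻¹ * ((v.1 : P) * v.2)⁻¹ * v.1
        rw [map_mul, hI _ v.1.2, hI _ v.2.2]
        group
      have e := (ha w rfl).symm.trans (ha (rep (prd w)) (hrep _ ⟨w, rfl⟩))
      rw [Subgroup.mem_centralizer_singleton_iff]
      have h : ((w.1 : P) * ((rep (prd w)).1 : P)⁻¹) * (prd w)⁻¹ =
          (prd w)⁻¹ * ((w.1 : P) * ((rep (prd w)).1 : P)⁻¹) := by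
        calc _ = (w.1 : P) * (((rep (prd w)).1 : P)⁻¹ * (prd w)⁻¹ * ((rep (prd w)).1 : P)) *
              ((rep (prd w)).1 : P)⁻¹ := by group
          _ = _ := by rw [← e]; group
      exact (Commute.inv_right_iff.mp h).eq
    let f : I × I → Σ z : P, Subgroup.centralizer ({z} : Set P) := fun w => ⟨prd w, ⟨_, key w⟩⟩
    have hf : Function.Injective f := by
      intro w w' h
      have h1 : prd w = prd w' := congrArg Sigma.fst h
      have h2 : ((f w).2 : P) = ((f w').2 : P) := by rw [h]
      simp only [f] at h2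
      rw [h1] at h2
      have e1 : (w.1 : P) = w'.1 := mul_right_cancel h2
      have e2 : (w.2 : P) = w'.2 := by
        have : (w.1 : P) * w.2 = w'.1 * w'.2 := h1
        rwa [e1, mul_right_inj] at this
      exact Prod.ext (Subtype.ext e1) (Subtype.ext e2)
    have h := Nat.card_le_card_of_injective f hf
    rwa [Nat.card_prod, Nat.card_sigma, ← finsum_eq_sum_of_fintype] at h
  calc Nat.card P ^ 2 ≤ (Nat.card {g : P // α g = g} * Nat.card I) ^ 2 := Nat.pow_le_pow_left h1 2
    _ = Nat.card {g : P // α g = g} ^ 2 * (Nat.card I * Nat.card I) := by ring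
    _ ≤ _ := Nat.mul_le_mul_left _ h2

/-- The bound for `2`-groups. -/
theorem two_bound (hP : IsPGroup 2 P) (α : MulAut P) (hα : α ^ 2 = 1) {n : ℕ}
    (hfix : Nat.card {g : P // α g = g} ≤ 2 ^ n) :
    derivedSeries P (2 * (2 ^ n) ^ 2 + ((2 * (2 ^ n) ^ 2) ^ 2 ^ (n * 2) + 1)) = ⊥ := by
  classical
  haveI : Fact (Nat.Prime 2) := ⟨Nat.prime_two⟩
  haveI := hP.isNilpotent
  haveI := Fintype.ofFinite P
  set k := 2 * (2 ^ n) ^ 2 with hk
  let X : Set P := {z | Nat.card P ≤ k * Nat.card (Subgroup.centralizer ({z} : Set P))}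
  have hX : Nat.card P ≤ k * Nat.card X := by
    have h1 := card_sq_le α hα
    rw [finsum_eq_sum_of_fintype] at h1
    have h2 : k * ∑ z : P, Nat.card (Subgroup.centralizer ({z} : Set P)) ≤
        ∑ z : P, ((if z ∈ X then k * Nat.card P else 0) + Nat.card P) := by
      rw [Finset.mul_sum]
      refine Finset.sum_le_sum fun z _ => ?_
      split_ifs with hz
      · exact le_add_right (Nat.mul_le_mul_left _ (Subgroup.card_le_card_group _))
      · rw [zero_add]; exact (not_le.mp hz).le
    rw [Finset.sum_add_distrib, Finset.sum_const, Finset.card_univ, ← Finset.sum_filter, Finset.sum_const,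
      smul_eq_mul, smul_eq_mul] at h2
    have hXc : (Finset.univ.filter (fun z => z ∈ X)).card = Nat.card X := by
      rw [Nat.card_eq_card_toFinset]
      congr 1
      ext z
      simp
    rw [hXc, ← Nat.card_eq_fintype_card] at h2
    set S := ∑ z : P, Nat.card (Subgroup.centralizer ({z} : Set P))
    set F := Nat.card {g : P // α g = g}
    have hF : F ^ 2 ≤ (2 ^ n) ^ 2 := Nat.pow_le_pow_left hfix 2
    have h3 : 2 * Nat.card P ^ 2 ≤ k * S := by
      rw [hk]
      calc 2 * Nat.card P ^ 2 ≤ 2 * (F ^ 2 * S) := Nat.mul_le_mul_left _ h1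
        _ ≤ 2 * ((2 ^ n) ^ 2 * S) := Nat.mul_le_mul_left _ (Nat.mul_le_mul_right _ hF)
        _ = _ := by ring
    have h4 : Nat.card P * Nat.card P ≤ Nat.card P * (k * Nat.card X) := by nlinarith
    exact Nat.le_of_mul_le_mul_left h4 Nat.card_pos
  have hXinv : ∀ θ : MulAut P, ∀ z ∈ X, θ z ∈ X := by
    intro θ z hz
    refine le_trans hz (Nat.mul_le_mul_left _ ?_)
    refine Nat.card_le_card_of_injective (fun c => (⟨θ (c : P), ?_⟩ : Subgroup.centralizer ({θ z} : Set P))) ?_
    · rw [Subgroup.mem_centralizer_singleton_iff, ← map_mul, ← map_mul,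
        Subgroup.mem_centralizer_singleton_iff.mp c.2]
    · intro a b h
      exact Subtype.ext (θ.injective (Subtype.mk.inj h))
  set H := Subgroup.closure X with hH
  have hHi : ∀ θ : MulAut P, ∀ x ∈ H, θ x ∈ H := by
    intro θ
    have : H ≤ H.comap θ.toMonoidHom := (Subgroup.closure_le _).mpr fun z hz =>
      Subgroup.subset_closure (hXinv θ z hz)
    exact fun x hx => this hx
  haveI := normal_of_invariant H hHi
  have hindex : H.index ≤ k := by
    have h1 : Nat.card X ≤ Nat.card H := Nat.card_mono (Set.toFinite _) Subgroup.subset_closure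
    have h2 : H.index * Nat.card H ≤ k * Nat.card H := by
      rw [Subgroup.index_mul_card]; exact hX.trans (Nat.mul_le_mul_left _ h1)
    exact Nat.le_of_mul_le_mul_right h2 Nat.card_pos
  haveI := Kser_normal (p := 2) hHi 1
  set B := Kser 2 H 1 with hB
  set π := QuotientGroup.mk' B
  have hQ : Nat.card (H.map π) ≤ 2 ^ (n * 2) :=
    card_section_le α hα hfix H B (map_eq_of_invariant _ (Kser_invariant hHi 1) α) (hHi α)
      (fun x hx y hy => Subgroup.mem_sup_left (Subgroup.commutator_mem_commutator hx hy))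
      (fun x hx => Kser_pow hHi (i := 0) hx)
  have hXH : ∀ y : π '' X, ∃ z ∈ X, π z = y := fun y => y.2
  choose sx hsx hsy using hXH
  set S := Set.range sx with hS
  have hScard : Nat.card S ≤ 2 ^ (n * 2) := by
    refine (Finite.card_range_le sx).trans ((Nat.card_mono (Set.toFinite _) ?_).trans hQ)
    rintro _ ⟨z, hz, rfl⟩
    exact Subgroup.mem_map_of_mem π (Subgroup.subset_closure hz)
  have hSX : S ⊆ X := by rintro _ ⟨y, rfl⟩; exact hsx y
  have hgen : H ≤ Subgroup.closure S ⊔ B := by
    refine (Subgroup.closure_le _).mpr fun z hz => ?_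
    have h := hsy ⟨π z, z, hz, rfl⟩
    have h1 : (sx ⟨π z, z, hz, rfl⟩)⁻¹ * z ∈ B := QuotientGroup.eq.mp h
    have := Subgroup.mul_mem _ (Subgroup.mem_sup_left (T := B) (Subgroup.subset_closure
      (Set.mem_range_self (⟨π z, z, hz, rfl⟩ : π '' X))))
      (Subgroup.mem_sup_right (S := Subgroup.closure S) h1)
    rwa [mul_inv_cancel_left] at this
  have hclS : Subgroup.closure S ≤ H := Subgroup.closure_mono hSX
  have hgen' : H ≤ Subgroup.closure S := by
    have hB' : B.subgroupOf H ≤ frattini H := by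
      have hHp := hP.to_subgroup H
      haveI := hHp.isNilpotent
      have h1 : B ≤ (frattini H).map H.subtype := by
        refine sup_le ((Subgroup.commutator_le).mpr fun a ha b hb => ?_) ((Subgroup.closure_le _).mpr ?_)
        · exact ⟨⁅⟨a, ha⟩, ⟨b, hb⟩⁆, Basics.commutator_le_frattini
            (Subgroup.commutator_mem_commutator (Subgroup.mem_top _) (Subgroup.mem_top _)), rfl⟩
        · rintro _ ⟨a, ha, rfl⟩
          exact ⟨⟨a, ha⟩ ^ 2, Basics.pow_mem_frattini hHp _, rfl⟩
      intro z hz
      obtain ⟨w, hw, hwz⟩ := h1 hz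
      rwa [Subtype.ext hwz] at hw
    have h2 : (Subgroup.closure S).subgroupOf H = ⊤ := by
      refine frattini_nongenerating (eq_top_iff.mpr ?_)
      refine le_trans ?_ (sup_le_sup_left hB' _)
      rw [← Subgroup.subgroupOf_sup hclS (Kser_succ_le hHi 0)]
      exact fun z _ => hgen z.2
    exact Subgroup.subgroupOf_eq_top.mp h2
  haveI : Fintype S := Fintype.ofFinite S
  set C := ⨅ s ∈ S.toFinset, Subgroup.centralizer ({s} : Set P) with hC
  have hCi : ∀ T : Finset P, ↑T ⊆ X → (⨅ s ∈ T, Subgroup.centralizer ({s} : Set P)).index ≤ k ^ T.card := by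
    intro T
    induction T using Finset.induction_on with
    | empty => simp
    | insert a T haT ih =>
      intro hT
      rw [Finset.iInf_insert, Finset.card_insert_of_notMem haT, pow_succ']
      refine (Subgroup.index_inf_le).trans (Nat.mul_le_mul ?_ (ih fun x hx => hT (by simp [hx])))
      have ha : a ∈ X := hT (by simp)
      have h2 : (Subgroup.centralizer ({a} : Set P)).index * Nat.card (Subgroup.centralizer ({a} : Set P)) ≤
          k * Nat.card (Subgroup.centralizer ({a} : Set P)) := by
        rw [Subgroup.index_mul_card]; exact ha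
      exact Nat.le_of_mul_le_mul_right h2 Nat.card_pos
  have hk1 : 1 ≤ k := Nat.one_le_iff_ne_zero.mpr (by rw [hk]; positivity)
  have hCindex : C.index ≤ k ^ 2 ^ (n * 2) := by
    refine (hCi S.toFinset (by simpa using hSX)).trans (Nat.pow_le_pow_right hk1 ?_)
    rwa [Set.toFinset_card, ← Nat.card_eq_fintype_card]
  have hcen : C.subgroupOf H ≤ Subgroup.center H := by
    intro c hc
    rw [Subgroup.mem_center_iff]
    intro g
    have h1 : Subgroup.closure S ≤ Subgroup.centralizer ({(c : P)} : Set P) := (Subgroup.closure_le _).mpr fun s hs => by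
      rw [SetLike.mem_coe, Subgroup.mem_centralizer_singleton_iff]
      have := Subgroup.mem_iInf.mp (Subgroup.mem_iInf.mp hc s) (Set.mem_toFinset.mpr hs)
      rw [Subgroup.mem_centralizer_singleton_iff] at this
      exact this.symm
    exact Subtype.ext (Subgroup.mem_centralizer_singleton_iff.mp (h1 (hgen' g.2)))
  have hcidx : (Subgroup.center H).index ≤ k ^ 2 ^ (n * 2) := by
    refine le_trans ?_ hCindex
    refine le_trans (Nat.le_of_dvd (Nat.pos_of_ne_zero Subgroup.index_ne_zero_of_finite)
      (Subgroup.index_dvd_of_le hcen)) ?_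
    exact (Subgroup.relIndex_le_of_le_right le_top (by rw [Subgroup.relIndex_top_right]; exact Subgroup.index_ne_zero_of_finite)).trans
      (Subgroup.relIndex_top_right C).le
  have h0 : derivedSeries P k ≤ H := (derivedSeries_antitone P hindex).trans (derived_le_of_normal H)
  have hd : derivedSeries H (k ^ 2 ^ (n * 2)) ≤ Subgroup.center H :=
    (derivedSeries_antitone H hcidx).trans (derived_le_of_normal _)
  have hlast : derivedSeries H (k ^ 2 ^ (n * 2) + 1) = ⊥ := by
    rw [derivedSeries_succ, Subgroup.commutator_eq_bot_iff_le_centralizer]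
    exact fun x hx => Subgroup.mem_centralizer_iff.mpr fun y _ => (Subgroup.mem_center_iff.mp (hd hx) y)
  rw [← dS_top, dS_add, dS_top]
  refine le_bot_iff.mp ((dS_mono h0 _).trans ?_)
  rw [← map_subtype_derivedSeries, hlast, Subgroup.map_bot]

end Cfsg.Agent.Alperin23
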